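import Groth.Agent.CurvFam16.NodalPlane.Model
import Groth.Agent.SmoothReg.Scheme
import Groth.Agent.RegLoc6.Basic
import Mathlib.AlgebraicGeometry.Morphisms.Smooth

/-! A finite birational map is an isomorphism over the smooth locus. -/

noncomputable section

set_option linter.style.haveILetI false
set_option linter.unusedSectionVars false
set_option backward.isDefEq.respectTransparency false
set_option backward.isDefEq.respectTransparency.types false

universe u

open CategoryTheory CategoryTheory.Limits AlgebraicGeometry TopologicalSpace Opposite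

namespace Groth.Agent.CurvFam16.NodalPlane

open Groth.Agent

/-- A finite birational map is an isomorphism over the smooth locus, which is nonempty. -/
theorem exists_open_isIso {k : Type u} [Field k] [PerfectField k] {X Y : Scheme.{u}} [IsIntegral X] [IsIntegral Y]
    (f : Y ⟶ Spec (CommRingCat.of k)) [LocallyOfFinitePresentation f] (φ : X ⟶ Y) [IsFinite φ]
    (e : φ (genericPoint X) = genericPoint Y) (hb : Function.Surjective (P1Map.ffMap φ e).hom) :
    ∃ U : Y.Opens, (U : Set Y).Nonempty ∧ IsIso (φ ∣_ U) := by
  let G : Y.Opens := f.smoothLocus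
  have hηG : genericPoint Y ∈ G := Scheme.Hom.genericPoint_mem_smoothLocus_of_perfectField f
  haveI : Nonempty G.toScheme := ⟨⟨_, hηG⟩⟩
  haveI : Nonempty (φ ⁻¹ᵁ G).toScheme := ⟨⟨genericPoint X, show φ (genericPoint X) ∈ G by rw [e]; exact hηG⟩⟩
  haveI : IsIntegral G.toScheme := isIntegral_of_isOpenImmersion G.ι
  haveI : IsIntegral (φ ⁻¹ᵁ G).toScheme := isIntegral_of_isOpenImmersion (φ ⁻¹ᵁ G).ι
  haveI : IsFinite (φ ∣_ G) := MorphismProperty.of_isPullback (isPullback_morphismRestrict φ G).flip ‹_›
  refine ⟨G, ⟨_, hηG⟩, ?_⟩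
  have hX : (genericPoint (φ ⁻¹ᵁ G).toScheme).1 = genericPoint X := genericPoint_eq_of_isOpenImmersion (φ ⁻¹ᵁ G).ι
  have hY : (genericPoint G.toScheme).1 = genericPoint Y := genericPoint_eq_of_isOpenImmersion G.ι
  have e' : (φ ∣_ G) (genericPoint (φ ⁻¹ᵁ G).toScheme) = genericPoint G.toScheme := by
    refine Subtype.ext ?_
    rw [hY, morphismRestrict_base_coe, hX, e]
  refine isIso_of_finite_birational (φ ∣_ G) e' (fun y => ?_) ?_
  · haveI : IsRegularLocalRing (Y.presheaf.stalk y.1) :=
      SmoothReg.isRegularLocalRing_stalk_of_mem_smoothLocus f y.2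
    haveI := RegLoc6.isIntegrallyClosed_of_isRegularLocalRing (Y.presheaf.stalk y.1)
    exact IsIntegrallyClosed.of_equiv (G.stalkIso y).commRingCatIsoToRingEquiv.symm
  · have h0 : Function.Surjective (φ.stalkMap (genericPoint X)) := fun c => by
      obtain ⟨a, rfl⟩ := hb c
      exact ⟨Y.presheaf.stalkSpecializes (specializes_of_eq e) a, rfl⟩
    have key : ∀ x : X, x = genericPoint X → Function.Surjective (φ.stalkMap x) := by rintro _ rfl; exact h0
    have hsurj : Function.Surjective ((φ ∣_ G).stalkMap (genericPoint (φ ⁻¹ᵁ G).toScheme)) := by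
      intro c
      let i := morphismRestrictStalkMap φ G (genericPoint (φ ⁻¹ᵁ G).toScheme)
      have hw := i.hom.w
      obtain ⟨a, ha⟩ := key _ hX (i.hom.right c)
      obtain ⟨b, rfl⟩ := (ConcreteCategory.bijective_of_isIso i.hom.left).2 a
      refine ⟨b, (ConcreteCategory.bijective_of_isIso i.hom.right).1 ?_⟩
      rw [← ha]
      exact (congrArg (fun g => g b) hw).symm
    intro c
    obtain ⟨a, rfl⟩ := hsurj c
    haveI : IsIso (G.toScheme.presheaf.stalkSpecializes (specializes_of_eq e')) := by
      have : ∀ (z : G.toScheme) (h : z = genericPoint G.toScheme),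
          IsIso (G.toScheme.presheaf.stalkSpecializes (specializes_of_eq h)) := by
        rintro z rfl
        rw [TopCat.Presheaf.stalkSpecializes_refl]
        infer_instance
      exact this _ e'
    obtain ⟨b, rfl⟩ := (ConcreteCategory.bijective_of_isIso (G.toScheme.presheaf.stalkSpecializes (specializes_of_eq e'))).2 a
    exact ⟨b, rfl⟩

end Groth.Agent.CurvFam16.NodalPlane
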