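import Mathlib.LinearAlgebra.Span.Basic
import Mathlib.Algebra.Algebra.Basic
import Mathlib.Tactic.LinearCombination
import Mathlib.Tactic.Ring

/-! Rows of secant and tangent conditions are independent. -/

set_option linter.style.haveILetI false
set_option linter.unusedSectionVars false

namespace Groth.Agent.CurvFam16.NodalPlane

variable {k K L : Type*} [Field k] [Field K] [Field L] [Algebra k K] [Algebra k L]

/-- Two rows without a nonzero minor are proportional on the span. -/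
theorem proportional_of_minors {ι : Type*} {e : ι → K} (T₁ T₂ : K →ₗ[k] L)
    (hmin : ∀ i j, T₁ (e i) * T₂ (e j) - T₁ (e j) * T₂ (e i) = 0) :
    (∀ v ∈ Submodule.span k (Set.range e), T₁ v = 0) ∨
      ∃ l : L, ∀ v ∈ Submodule.span k (Set.range e), T₂ v = l * T₁ v := by
  by_cases h : ∀ i, T₁ (e i) = 0
  · exact Or.inl fun v hv => by
      induction hv using Submodule.span_induction with
      | mem x hx => obtain ⟨i, rfl⟩ := hx; exact h i
      | zero => exact map_zero _
      | add x y _ _ hx hy => rw [map_add, hx, hy, add_zero]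
      | smul c x _ hx => rw [map_smul, hx, smul_zero]
  · obtain ⟨i, hi⟩ := not_forall.1 h
    refine Or.inr ⟨T₂ (e i) / T₁ (e i), fun v hv => ?_⟩
    induction hv using Submodule.span_induction with
    | mem x hx =>
      obtain ⟨j, rfl⟩ := hx
      rw [div_mul_eq_mul_div, eq_div_iff hi]
      linear_combination hmin i j
    | zero => rw [map_zero, map_zero, mul_zero]
    | add x y _ _ hx hy => rw [map_add, map_add, hx, hy, mul_add]
    | smul c x _ hx => rw [map_smul, map_smul, hx, mul_smul_comm]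

/-- The differences of three embeddings are not proportional. -/
theorem triple_false (φ₀ φ₁ φ₂ : K →+* L) {w a : K} (hw : w ≠ 0) (h01 : φ₀ a ≠ φ₁ a) (h02 : φ₀ a ≠ φ₂ a)
    (h12 : φ₁ a ≠ φ₂ a) (l : L)
    (h : ∀ i : ℕ, i ≤ 2 → φ₂ (w * a ^ i) - φ₀ (w * a ^ i) = l * (φ₁ (w * a ^ i) - φ₀ (w * a ^ i))) : False := by
  have e0 := h 0 (by omega)
  have e1 := h 1 (by omega)
  have e2 := h 2 (by omega)
  simp only [map_mul, map_pow, pow_zero, mul_one, pow_one] at e0 e1 e2
  have key : φ₂ w * ((φ₂ a - φ₀ a) * (φ₂ a - φ₁ a)) = 0 := by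
    linear_combination e2 - (φ₀ a + φ₁ a) * e1 + φ₀ a * φ₁ a * e0
  rcases mul_eq_zero.1 key with h' | h'
  · exact (map_ne_zero φ₂).2 hw h'
  · rcases mul_eq_zero.1 h' with h'' | h''
    · exact h02 (sub_eq_zero.1 h'').symm
    · exact h12 (sub_eq_zero.1 h'').symm

/-- The difference of two embeddings and that of the derivatives are not proportional. -/
theorem pair_false (φ₀ φ₁ : K →+* L) {d : K →+ K} (hd : ∀ u v, d (u * v) = u * d v + v * d u) {w a : K}
    (hw : w ≠ 0) (ha : d a ≠ 0) (h01 : φ₀ a ≠ φ₁ a) (l : L)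
    (h : ∀ i : ℕ, i ≤ 3 → φ₁ (d (w * a ^ i)) - φ₀ (d (w * a ^ i)) = l * (φ₁ (w * a ^ i) - φ₀ (w * a ^ i))) :
    False := by
  have e0 := h 0 (by omega)
  have e1 := h 1 (by omega)
  have e2 := h 2 (by omega)
  have e3 := h 3 (by omega)
  have d2 : d (a ^ 2) = 2 * a * d a := by rw [sq, hd]; ring
  have d3 : d (a ^ 3) = 3 * a ^ 2 * d a := by rw [pow_succ, hd, d2]; ring
  simp only [pow_zero, mul_one, pow_one] at e0 e1
  rw [hd] at e1 e2 e3
  rw [d2] at e2
  rw [d3] at e3
  simp only [map_mul, map_pow, map_add, map_ofNat] at e0 e1 e2 e3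
  have key : φ₁ w * φ₁ (d a) * (φ₁ a - φ₀ a) ^ 2 = 0 := by
    linear_combination e3 - (φ₁ a + 2 * φ₀ a) * e2 + (2 * φ₁ a * φ₀ a + φ₀ a ^ 2) * e1 - φ₁ a * φ₀ a ^ 2 * e0
  rcases mul_eq_zero.1 key with h' | h'
  · rcases mul_eq_zero.1 h' with h'' | h''
    · exact (map_ne_zero φ₁).2 hw h''
    · exact (map_ne_zero φ₁).2 ha h''
  · exact h01 (sub_eq_zero.1 (pow_eq_zero_iff two_ne_zero |>.1 h')).symm

end Groth.Agent.CurvFam16.NodalPlane
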