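import Groth.Agent.CurvFam16.Castel.Pencil
import Groth.Agent.CurvFam16.Nonspec.FF
import Groth.Agent.FFLib.PlaneGen
import Groth.Agent.FFLib.Diff.Basic

/-! The abscissa of a general plane projection. -/

set_option linter.style.haveILetI false
set_option linter.unusedSectionVars false
set_option backward.isDefEq.respectTransparency false
set_option backward.isDefEq.respectTransparency.types false

namespace Groth.Agent.CurvFam16.NodalPlane

open FunFld WithZero IntermediateField
open Groth.Agent.FFLib Groth.Agent.LS17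

universe u

variable {k K : Type u} [Field k] [Field K] [Algebra k K] [IsAlgClosed k] (hK : IsFunctionField k K)
include hK

/-- A function with only simple poles of high total degree and nonzero differential. -/
theorem exists_simple_poles {x₀ : K} (hx₀ : KaehlerDifferential.D k K x₀ ≠ 0) (M : ℕ) :
    ∃ x : K, Transcendental k x ∧ KaehlerDifferential.D k K x ≠ 0 ∧
      (∀ P : Place k K, P.1 x ≤ 1 ∨ P.1 x = exp (1 : ℤ)) ∧ (M : ℤ) ≤ (poles x : Divisor k K).deg := by
  classical
  obtain ⟨htr, -⟩ := separating_of_D_ne hK (isGeometric_of_perfect hK) hx₀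
  obtain ⟨B, hB, hBgood⟩ := Castel.exists_reduced_fibres hK hx₀
  obtain ⟨T, hTB, hT⟩ := (hB.infinite_compl).exists_subset_card_eq (M + 1)
  have hne : ∀ c, x₀ - algebraMap k K c ≠ 0 := fun c e => htr (by
    rw [sub_eq_zero.mp e]; exact isAlgebraic_algebraMap c)
  have hzero : ∀ c : k, ∃ P : Place k K, P.1 (x₀ - algebraMap k K c) < 1 := fun c => by
    obtain ⟨P, hP⟩ := exists_place_zero hK.1 (x := x₀ - algebraMap k K c)
      (fun h => htr (by simpa using h.add (isAlgebraic_algebraMap c)))
    exact ⟨P, hP⟩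
  set x := ∑ c ∈ T, (x₀ - algebraMap k K c)⁻¹ with hxdef
  -- values of the summands
  have hval : ∀ c ∈ T, ∀ P : Place k K, P.1 (x₀ - algebraMap k K c) < 1 →
      P.1 x = exp (1 : ℤ) ∧ P.1 ((x₀ - algebraMap k K c)⁻¹) = exp (1 : ℤ) := fun c hc P hP => by
    have ho := hBgood c (hTB hc) P hP
    have h1 : P.1 ((x₀ - algebraMap k K c)⁻¹) = exp (1 : ℤ) := by
      rw [map_inv₀, val_eq_exp P (hne c), ho, ← exp_neg, neg_neg]
    refine ⟨?_, h1⟩
    rw [hxdef, ← Finset.add_sum_erase T _ hc, ← h1]
    refine Valuation.map_add_eq_of_lt_left _ (Valuation.map_sum_lt _ (by rw [h1]; exact exp_ne_zero) fun c' hc' => ?_)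
    have hcc : c' ≠ c := (Finset.mem_erase.1 hc').1
    have hu : P.1 (x₀ - algebraMap k K c') = 1 := by
      rw [show x₀ - algebraMap k K c' = (x₀ - algebraMap k K c) + algebraMap k K (c - c') by rw [map_sub]; ring]
      rw [Valuation.map_add_eq_of_lt_right _ (by rw [val_algebraMap P (sub_ne_zero.mpr (Ne.symm hcc))]; exact hP),
        val_algebraMap P (sub_ne_zero.mpr (Ne.symm hcc))]
    rw [map_inv₀, hu, inv_one, h1, ← exp_zero, exp_lt_exp]
    norm_num
  have hor : ∀ P : Place k K, P.1 x ≤ 1 ∨ P.1 x = exp (1 : ℤ) := fun P => by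
    by_cases h : ∃ c ∈ T, P.1 (x₀ - algebraMap k K c) < 1
    · obtain ⟨c, hc, hP⟩ := h
      exact Or.inr (hval c hc P hP).1
    · push Not at h
      refine Or.inl (Valuation.map_sum_le _ fun c hc => ?_)
      rw [map_inv₀]
      exact inv_le_one_of_one_le₀ (h c hc)
  obtain ⟨c₀, hc₀⟩ : T.Nonempty := Finset.card_pos.1 (by omega)
  obtain ⟨P₀, hP₀⟩ := hzero c₀
  have hxtr : Transcendental k x := transcendental_of_not_range hK fun ⟨e, he⟩ => by
    have h := (hval c₀ hc₀ P₀ hP₀).1
    rw [← he] at h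
    have := P₀.2.1 e
    rw [h, ← exp_zero, exp_le_exp] at this
    omega
  have hxne : x ≠ 0 := fun e => hxtr (e ▸ isAlgebraic_zero)
  refine ⟨x, hxtr, ?_, hor, ?_⟩
  · intro hD
    obtain ⟨φ, hφ, -⟩ := exists_expansion' hK P₀ (t := x⁻¹) (by
      rw [map_inv₀, (hval c₀ hc₀ P₀ hP₀).1, ← exp_neg])
    refine D_ne_of_vDiff (φ := φ) (x := x⁻¹) ?_ ?_
    · rw [vDiff_unif hφ (by rw [map_inv₀, (hval c₀ hc₀ P₀ hP₀).1, ← exp_neg])]
      exact one_ne_zero
    · rw [Derivation.leibniz_inv, hD, smul_zero]
  · choose Z hZ using hzero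
    have hinj : Set.InjOn Z T := fun c hc c' hc' e => by
      by_contra hne'
      have h1 := hZ c
      have h2 := hZ c'
      rw [← e] at h2
      have : (Z c).1 (algebraMap k K (c' - c)) < 1 := by
        rw [map_sub, show algebraMap k K c' - algebraMap k K c =
          (x₀ - algebraMap k K c) - (x₀ - algebraMap k K c') by ring]
        exact (Valuation.map_sub _ _ _).trans_lt (max_lt h1 h2)
      rw [val_algebraMap _ (sub_ne_zero.mpr (Ne.symm hne'))] at this
      exact lt_irrefl _ this
    have hle : ∑ P ∈ T.image Z, Finsupp.single P (1 : ℤ) ≤ (poles x : Divisor k K) := fun Q => by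
      rw [Finsupp.finsetSum_apply]
      simp only [Finsupp.single_apply, Finset.sum_ite_eq']
      split_ifs with h
      · obtain ⟨c, hc, rfl⟩ := Finset.mem_image.1 h
        rw [poles, Finsupp.mapRange_apply, div_apply hK.1]
        have := ord_of_val_eq (n := (-1 : ℤ)) (Z c) (x := x) (by rw [(hval c hc _ (hZ c)).1]; rfl)
        omega
      · exact poles_nonneg x Q
    refine le_trans ?_ (Divisor.deg_mono hle)
    rw [deg_finset_sum, Finset.sum_congr rfl fun P _ => deg_pt hK P, Finset.sum_const, Finset.card_image_of_injOn hinj, hT]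
    simp

/-- The data of a general plane projection. -/
theorem exists_setup :
    ∃ (x w a : K) (d : K →+ K), Transcendental k x ∧ KaehlerDifferential.D k K x ≠ 0 ∧
      ((∀ u v, d (u * v) = u * d v + v * d u) ∧ (∀ c : k, d (algebraMap k K c) = 0) ∧ d x = 1) ∧
      (∀ P : Place k K, P.1 x ≤ 1 ∨ P.1 x = exp (1 : ℤ)) ∧
      (∀ P Q : Place k K, ell ((poles x : Divisor k K) - Finsupp.single P 1 - Finsupp.single Q 1) + 2 ≤
        ell (poles x : Divisor k K)) ∧
      w ≠ 0 ∧ d a ≠ 0 ∧ adjoin k ({x, a} : Set K) = ⊤ ∧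
      (∀ i : ℕ, i ≤ 3 → w * a ^ i ∈ L (poles x : Divisor k K)) := by
  classical
  have hgeo := isGeometric_of_perfect hK
  obtain ⟨x₀, hx₀t, hsep₀⟩ := exists_separating_element hK hgeo
  have hD₀ := D_ne_zero hK hx₀t hsep₀
  haveI := IsFF.finite_adjoin hK.1 hx₀t
  haveI := hsep₀
  obtain ⟨a₀, ha₀⟩ := Field.exists_primitive_element k⟮x₀⟯ K
  set A : Divisor k K := poles x₀ + poles a₀
  obtain ⟨x, hxt, hxD, hpoles, hdeg⟩ := exists_simple_poles hK hD₀
    (2 * genus k K + (3 * A.deg).toNat + 2)
  obtain ⟨d, hd⟩ := exists_deriv hK hgeo hxD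
  set D' : Divisor k K := poles x
  have hell : ∀ P Q : Place k K, ell (D' - Finsupp.single P 1 - Finsupp.single Q 1) + 2 ≤ ell D' := fun P Q => by
    have h1 := ell_of_deg_gt hK (D := D') (by omega)
    have h2 := ell_of_deg_gt hK (D := D' - Finsupp.single P 1 - Finsupp.single Q 1) (by
      rw [deg_sub_pt hK, deg_sub_pt hK]; omega)
    rw [deg_sub_pt hK, deg_sub_pt hK] at h2
    omega
  obtain ⟨w, hwL, hw0⟩ : ∃ w ∈ L (D' - (A + A + A)), w ≠ 0 := by
    have h1 := ell_of_deg_gt hK (D := D' - (A + A + A)) (by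
      rw [Divisor.deg_sub, Divisor.deg_add, Divisor.deg_add]; omega)
    rw [Divisor.deg_sub, Divisor.deg_add, Divisor.deg_add] at h1
    by_contra! h
    have hbot : L (D' - (A + A + A)) = ⊥ := eq_bot_iff.2 fun z hz => h z hz
    have h0 : ell (D' - (A + A + A)) = 0 := by rw [ell, hbot, finrank_bot]
    omega
  have hsep := (separating_of_D_ne hK hgeo hxD).2
  haveI := IsFF.finite_adjoin hK.1 hxt
  haveI := finite_intermediate hK hsep
  let W : Submodule k K := Submodule.span k {x₀, a₀}
  have hdx₀ : d x₀ ≠ 0 := fun h0 => one_ne_zero (hd.2.2.symm.trans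
    (leibniz_eq_zero (k := k) (RingHom.id K) d (fun u v => hd.1 u v) hd.2.1 hsep₀ h0 x))
  let p : Option {F : IntermediateField k⟮x⟯ K // F ≠ ⊤} → Submodule k W := fun o => o.elim
    ({ carrier := {v | d (v : K) = 0}
       add_mem' := fun {u v} hu hv => by
         show d ((u : K) + v) = 0
         rw [map_add, show d (u : K) = 0 from hu, show d (v : K) = 0 from hv, add_zero]
       zero_mem' := by show d 0 = 0; rw [map_zero]
       smul_mem' := fun c v hv => by
         show d (c • (v : K)) = 0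
         rw [Algebra.smul_def, hd.1, hd.2.1, show d (v : K) = 0 from hv, mul_zero, mul_zero, add_zero] } :
      Submodule k W)
    fun F => ((F.1.restrictScalars k).toSubalgebra.toSubmodule).comap W.subtype
  have hp : ∀ o, p o ≠ ⊤ := fun o htop => by
    rcases o with _ | F
    · have h : (⟨x₀, Submodule.subset_span (Or.inl rfl)⟩ : W) ∈ p none := htop ▸ trivial
      exact hdx₀ h
    · have hmem : ∀ v (hv : v ∈ W), v ∈ F.1.restrictScalars k := fun v hv =>
        (show (⟨v, hv⟩ : W) ∈ p (some F) from htop ▸ trivial)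
      refine F.2 (eq_top_iff.2 fun z _ => ?_)
      have hle : (k⟮x₀⟯)⟮a₀⟯.restrictScalars k ≤ F.1.restrictScalars k := by
        rw [adjoin_simple_adjoin_simple, adjoin_le_iff]
        intro v hv
        exact hmem v (Submodule.subset_span hv)
      exact hle (by rw [ha₀]; trivial)
  obtain ⟨⟨a, haW⟩, hap⟩ := Submodule.exists_forall_notMem_of_forall_ne_top p hp
  have htop : (k⟮x⟯)⟮a⟯ = ⊤ := by
    by_contra h
    exact hap (some ⟨_, h⟩) (mem_adjoin_simple_self k⟮x⟯ a)
  refine ⟨x, w, a, d, hxt, hxD, hd, hpoles, hell, hw0, hap none, ?_, fun i hi => ?_⟩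
  · have h := congrArg (IntermediateField.restrictScalars k) htop
    rwa [adjoin_simple_adjoin_simple, restrictScalars_top] at h
  · intro P
    have hA : ∀ z : K, (z = x₀ ∨ z = a₀) → P.1 z ≤ exp (A P) := fun z hz => by
      refine (val_le_exp_poles hK.1 z P).trans (exp_le_exp.2 ?_)
      have h1 := poles_nonneg (k := k) x₀ P
      have h2 := poles_nonneg (k := k) a₀ P
      rw [Finsupp.zero_apply] at h1 h2
      rcases hz with rfl | rfl <;> · simp only [A, Finsupp.add_apply]; omega
    have ha : ∀ z ∈ W, P.1 z ≤ exp (A P) := fun z hz => by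
      induction hz using Submodule.span_induction with
      | mem z hz => exact hA z hz
      | zero => rw [map_zero]; exact zero_le
      | add u v _ _ hu hv => exact (P.1.map_add _ _).trans (max_le hu hv)
      | smul c v _ hv =>
        rw [Algebra.smul_def, map_mul]
        exact (mul_le_of_le_one_left' (P.2.1 c)).trans hv
    have hA0 : 0 ≤ A P := by
      have h1 := poles_nonneg (k := k) x₀ P
      have h2 := poles_nonneg (k := k) a₀ P
      rw [Finsupp.zero_apply] at h1 h2
      simp only [A, Finsupp.add_apply]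
      omega
    rw [map_mul, map_pow]
    refine (mul_le_mul' (hwL P) (pow_le_pow_left' (ha a haW) i)).trans ?_
    rw [← exp_nsmul, ← exp_add, exp_le_exp, Finsupp.sub_apply, Finsupp.add_apply, Finsupp.add_apply, nsmul_eq_mul]
    have : (i : ℤ) ≤ 3 := by exact_mod_cast hi
    nlinarith

end Groth.Agent.CurvFam16.NodalPlane
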