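import Groth.Agent.LS17.Pv
import Groth.Agent.FFLib.Diff.Basic
import Groth.Agent.FFLib.Geometric

/-! The derivative at a place where the variable is a uniformiser is the slope. -/

set_option linter.style.haveILetI false
set_option linter.unusedSectionVars false

namespace Groth.Agent.CurvFam16.NodalPlane

open FunFld WithZero
open Groth.Agent.FFLib Groth.Agent.LS17

universe u

variable {k K : Type u} [Field k] [Field K] [Algebra k K] [IsAlgClosed k] (hK : IsFunctionField k K)
  {x : K} (hx : KaehlerDifferential.D k K x ≠ 0) {d : K →+ K}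
  (hd : (∀ a b, d (a * b) = a * d b + b * d a) ∧ (∀ c : k, d (algebraMap k K c) = 0) ∧ d x = 1)
include hK hx hd

/-- Differentiation preserves regularity where the variable is a uniformiser. -/
theorem deriv_le_one {P : Place k K} {c : k} (hP : P.1 (x - algebraMap k K c) = exp (-1 : ℤ)) {v : K}
    (hv : P.1 v ≤ 1) : P.1 (d v) ≤ 1 := by
  obtain ⟨φ, hφ, -⟩ := exists_expansion' hK P hP
  have hD := D_exp_eq hK (isGeometric_of_perfect hK) hx φ hd v
  have h1 : Valued.v (LocRes.D k (φ x)) = 1 := by
    have h := vDiff_unif hφ hP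
    rw [vDiff_one, map_sub, map_sub] at h
    rw [show LocRes.D k (φ (algebraMap k K c)) = 0 from dExp_const φ c, sub_zero] at h
    exact h
  have hlow : Low (φ v) 0 := (low_iff_val _ _).2 (by rw [hφ.1]; simpa using hv)
  have h2 : Valued.v (LocRes.D k (φ v)) ≤ 1 := by
    have h3 : Low (LocRes.D k (φ v)) 0 := fun i hi => by
      by_cases hi' : i < -1
      · exact hlow.deriv i (by omega)
      · obtain rfl : i = -1 := by omega
        rw [LocRes.D_coeff]
        simp
    simpa using (low_iff_val _ _).1 h3
  rw [hD, map_mul, h1, mul_one, hφ.1] at h2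
  exact h2

/-- The value of the derivative is the slope. -/
theorem slope_spec {P : Place k K} {c : k} (hP : P.1 (x - algebraMap k K c) = exp (-1 : ℤ)) {v : K}
    (hv : P.1 v ≤ 1) :
    P.1 (v - algebraMap k K (pv P v) - algebraMap k K (pv P (d v)) * (x - algebraMap k K c)) ≤ exp (-2 : ℤ) := by
  set t := x - algebraMap k K c
  have ht0 : t ≠ 0 := fun e => by rw [e, map_zero] at hP; exact exp_ne_zero hP.symm
  set w := (v - algebraMap k K (pv P v)) / t
  have hw : P.1 w ≤ 1 := by
    have h := (le_exp_neg_one_iff P (z := v - algebraMap k K (pv P v))).2 (pv_spec hK hv)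
    rw [map_div₀, hP, div_le_one₀ (zero_lt_iff.mpr exp_ne_zero)]
    exact h
  have hdt : d t = 1 := by rw [map_sub, hd.2.1, hd.2.2, sub_zero]
  have hvw : v = algebraMap k K (pv P v) + t * w := by
    simp only [w]; field_simp; ring
  have hdv : d v = w + t * d w := by
    conv_lhs => rw [hvw]
    rw [map_add, hd.2.1, zero_add, hd.1, hdt, mul_one, add_comm]
  have hlt : P.1 t < 1 := by rw [hP, ← exp_zero, exp_lt_exp]; norm_num
  have hdw := deriv_le_one hK hx hd hP hw
  have hpv : pv P (d v) = pv P w := by
    rw [hdv, pv_add hK hw (le_one_mul hlt.le hdw), pv_mul hK hlt.le hdw, pv_eq (c := (0 : k)) (x := t)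
      (by rw [map_zero, sub_zero]; exact hlt), zero_mul, add_zero]
  rw [hpv, show v - algebraMap k K (pv P v) - algebraMap k K (pv P w) * t =
    t * (w - algebraMap k K (pv P w)) by linear_combination hvw, map_mul, hP,
    show (-2 : ℤ) = -1 + -1 by norm_num, exp_add]
  exact mul_le_mul' le_rfl ((le_exp_neg_one_iff P).2 (pv_spec hK hw))

end Groth.Agent.CurvFam16.NodalPlane
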