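import Groth.Agent.CurvFam16.NodalPlane.Closure
import Groth.Agent.CurvFam16.NodalPlane.Slope
import Groth.Agent.CurvFam16.NodalPlane.Rows
import Groth.Agent.CurvFam16.NodalPlane.Setup
import Mathlib.FieldTheory.Galois.Basic

/-! A pair of functions giving a plane model with ordinary double points only. -/

set_option linter.style.haveILetI false
set_option linter.unusedSectionVars false
set_option backward.isDefEq.respectTransparency false
set_option backward.isDefEq.respectTransparency.types false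

namespace Groth.Agent.CurvFam16.NodalPlane

open FunFld WithZero IntermediateField
open Groth.Agent.FFLib Groth.Agent.LS17

universe u

variable {k K : Type u} [Field k] [Field K] [Algebra k K]

/-- The map `(1 : x : y)` immerses all places, with at most transversal double points. -/
structure NodalPair (k : Type u) {K : Type u} [Field k] [Field K] [Algebra k K] (x y : K) : Prop where
  gen : adjoin k ({x, y} : Set K) = ⊤
  tr : Transcendental k x
  pole : ∀ P : Place k K, ¬ P.1 x ≤ 1 → P.1 x = exp (1 : ℤ) ∧ P.1 (y / x) ≤ 1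
  pole_inj : ∀ P Q : Place k K, ¬ P.1 x ≤ 1 → ¬ Q.1 x ≤ 1 → P ≠ Q → pv P (y / x) ≠ pv Q (y / x)
  affine : ∀ P : Place k K, P.1 x ≤ 1 → P.1 y ≤ 1
  imm : ∀ P : Place k K, P.1 x ≤ 1 → P.1 (x - algebraMap k K (pv P x)) = exp (-1 : ℤ) ∨
    P.1 (y - algebraMap k K (pv P y)) = exp (-1 : ℤ)
  double : ∀ P Q : Place k K, P ≠ Q → P.1 x ≤ 1 → Q.1 x ≤ 1 → pv P x = pv Q x → pv P y = pv Q y →
    ∃ s t : k, s ≠ t ∧ P.1 (x - algebraMap k K (pv P x)) = exp (-1 : ℤ) ∧
      Q.1 (x - algebraMap k K (pv P x)) = exp (-1 : ℤ) ∧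
      P.1 (y - algebraMap k K (pv P y) - algebraMap k K s * (x - algebraMap k K (pv P x))) ≤ exp (-2 : ℤ) ∧
      Q.1 (y - algebraMap k K (pv P y) - algebraMap k K t * (x - algebraMap k K (pv P x))) ≤ exp (-2 : ℤ)
  triple : ∀ P Q S : Place k K, P ≠ Q → P ≠ S → Q ≠ S → P.1 x ≤ 1 → Q.1 x ≤ 1 → S.1 x ≤ 1 →
    pv P x = pv Q x → pv P x = pv S x → pv P y = pv Q y → pv P y ≠ pv S y

/-- Functions with one value at two places. -/
def sameAt (P Q : Place k K) : Submodule k K where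
  carrier := {z | ∃ c : k, P.1 (z - algebraMap k K c) < 1 ∧ Q.1 (z - algebraMap k K c) < 1}
  add_mem' := by
    rintro z z' ⟨c, h1, h2⟩ ⟨c', h1', h2'⟩
    refine ⟨c + c', ?_, ?_⟩ <;> rw [map_add (algebraMap k K), add_sub_add_comm]
    · exact (P.1.map_add _ _).trans_lt (max_lt h1 h1')
    · exact (Q.1.map_add _ _).trans_lt (max_lt h2 h2')
  zero_mem' := ⟨0, by simp, by simp⟩
  smul_mem' := by
    rintro a z ⟨c, h1, h2⟩
    refine ⟨a * c, ?_, ?_⟩ <;> rw [Algebra.smul_def, map_mul (algebraMap k K), ← mul_sub, map_mul]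
    · exact (mul_le_of_le_one_left' (P.2.1 a)).trans_lt h1
    · exact (mul_le_of_le_one_left' (Q.2.1 a)).trans_lt h2

/-- Functions with a critical value at a place. -/
def critAt (P : Place k K) : Submodule k K where
  carrier := {z | ∃ c : k, P.1 (z - algebraMap k K c) ≤ exp (-2 : ℤ)}
  add_mem' := by
    rintro z z' ⟨c, h1⟩ ⟨c', h1'⟩
    refine ⟨c + c', ?_⟩
    rw [map_add (algebraMap k K), add_sub_add_comm]
    exact (P.1.map_add _ _).trans (max_le h1 h1')
  zero_mem' := ⟨0, by simp⟩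
  smul_mem' := by
    rintro a z ⟨c, h1⟩
    refine ⟨a * c, ?_⟩
    rw [Algebra.smul_def, map_mul (algebraMap k K), ← mul_sub, map_mul]
    exact (mul_le_of_le_one_left' (P.2.1 a)).trans h1

theorem mem_sameAt {P Q : Place k K} {z : K} : z ∈ sameAt P Q ↔
    ∃ c : k, P.1 (z - algebraMap k K c) < 1 ∧ Q.1 (z - algebraMap k K c) < 1 := Iff.rfl

theorem mem_critAt {P : Place k K} {z : K} :
    z ∈ critAt P ↔ ∃ c : k, P.1 (z - algebraMap k K c) ≤ exp (-2 : ℤ) := Iff.rfl

/-- A proper subspace lies in a hypersurface. -/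
theorem exists_poly_of_ne_top {ι : Type u} [Fintype ι] [DecidableEq ι] {p : Submodule k (ι → k)} (h : p ≠ ⊤) :
    ∃ P : MvPolynomial ι k, P ≠ 0 ∧ ∀ a ∈ p, MvPolynomial.eval a P = 0 := by
  obtain ⟨f, hf, hp⟩ := Submodule.exists_le_ker_of_lt_top p h.lt_top
  have key : ∀ a : ι → k, MvPolynomial.eval a (∑ l, MvPolynomial.C (f (Pi.single l 1)) * MvPolynomial.X l) = f a := by
    intro a
    simp only [map_sum, map_mul, MvPolynomial.eval_C, MvPolynomial.eval_X]
    conv_rhs => rw [pi_eq_sum_univ' a, map_sum]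
    exact Finset.sum_congr rfl fun l _ => by rw [map_smul, smul_eq_mul, mul_comm]
  refine ⟨_, fun e => hf (LinearMap.ext fun a => ?_), fun a ha => (key a).trans (hp ha)⟩
  rw [← key a, e, map_zero]; rfl

variable [IsAlgClosed k] (hK : IsFunctionField k K)
include hK

/-- A member vanishing at the first place, exact at the second. -/
theorem exists_sep_member {D : Divisor k K} {P Q : Place k K}
    (h : ell (D - Finsupp.single P 1 - Finsupp.single Q 1) + 2 ≤ ell D) :
    ∃ v ∈ L D, v ∈ L (D - Finsupp.single P 1) ∧ v ≠ 0 ∧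
      Q.ord v = -(D - Finsupp.single P 1 : Divisor k K) Q := by
  haveI := L_finite hK.1 (D - Finsupp.single P 1 - Finsupp.single Q 1)
  obtain ⟨v, hv, hv'⟩ : ∃ v ∈ L (D - Finsupp.single P 1), v ∉ L (D - Finsupp.single P 1 - Finsupp.single Q 1) := by
    by_contra! hle
    have := Submodule.finrank_mono (show L (D - Finsupp.single P 1) ≤ _ from hle)
    have h2 := ell_le_sub_pt hK D P
    simp only [ell] at *
    omega
  obtain ⟨h0, ho⟩ := (not_mem_L_sub_iff hv).mp hv'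
  exact ⟨v, L_mono (sub_le_self _ (Finsupp.single_nonneg.mpr zero_le_one)) hv, hv, h0, ho⟩

/-- A general member of the linear system. -/
theorem exists_ordinate {F : Type u} [Field F] [Algebra k F] [Algebra F K] [IsScalarTower k F K] {L : Type u} [Field L]
  [Algebra k L] [Algebra F L] [Algebra K L] [IsScalarTower k F L] [IsScalarTower k K L] [IsScalarTower F K L]
  [FiniteDimensional F L] [IsGalois F L]
    (hF : IsFF k F) (g₀ : F) {x w a : K} (hgx : algebraMap F K g₀ = x)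
    (hFx : ∀ f : F, algebraMap F K f ∈ k⟮x⟯)
    (huniq : ∀ c : k, ∀ A B : Place k F, A.1 (g₀ - algebraMap k F c) < 1 → B.1 (g₀ - algebraMap k F c) < 1 → A = B)
    {d : K →+ K} (hxt : Transcendental k x) (hxD : KaehlerDifferential.D k K x ≠ 0)
    (hd : (∀ u v, d (u * v) = u * d v + v * d u) ∧ (∀ c : k, d (algebraMap k K c) = 0) ∧ d x = 1)
    (hpoles : ∀ P : Place k K, P.1 x ≤ 1 ∨ P.1 x = exp (1 : ℤ))
    (hell : ∀ P Q : Place k K, ell ((poles x : Divisor k K) - Finsupp.single P 1 - Finsupp.single Q 1) + 2 ≤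
      ell (poles x : Divisor k K))
    (hw : w ≠ 0) (hda : d a ≠ 0) (hgen : adjoin k ({x, a} : Set K) = ⊤)
    (hwa : ∀ i : ℕ, i ≤ 3 → w * a ^ i ∈ FunFld.L (poles x : Divisor k K)) :
    ∃ y : K, NodalPair k x y := by
  classical
  set D : Divisor k K := poles x with hDdef
  have hKL : IsFunctionField k L := isFunctionField_of_isFF hF.ext
  set xL : L := algebraMap F L g₀
  have hembx : ∀ g : L ≃ₐ[F] L, emb (K := K) g x = xL := fun g => hgx ▸ emb_algebraMap g g₀
  -- the linear system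
  haveI := L_finite hK.1 D
  let ι := ULift.{u} (Fin (Module.finrank k (FunFld.L D)))
  let b : Module.Basis ι k (FunFld.L D) := (Module.finBasis k (FunFld.L D)).reindex Equiv.ulift.symm
  let e : ι → K := fun l => (b l : K)
  let Y : (ι → k) →ₗ[k] K := Fintype.linearCombination k e
  have hY : ∀ a, Y a = ∑ l, a l • e l := fun a => Fintype.linearCombination_apply k e a
  have heL : ∀ l, e l ∈ FunFld.L D := fun l => (b l).2
  have hYL : ∀ a, Y a ∈ FunFld.L D := fun a => by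
    rw [hY]; exact Submodule.sum_mem _ fun l _ => Submodule.smul_mem _ _ (heL l)
  have hspan : Submodule.span k (Set.range e) = FunFld.L D := by
    have hr : Set.range e = (FunFld.L D).subtype '' Set.range b := by rw [← Set.range_comp]; rfl
    rw [hr, Submodule.span_image, b.span_eq, Submodule.map_top, Submodule.range_subtype]
  have hYsurj : ∀ v ∈ FunFld.L D, ∃ a, Y a = v := fun v hv => by
    rw [← hspan, Submodule.mem_span_range_iff_exists_fun] at hv
    obtain ⟨a, ha⟩ := hv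
    exact ⟨a, (hY a).trans ha⟩
  have hD1 : ∀ P : Place k K, ¬ P.1 x ≤ 1 → P.1 x = exp (1 : ℤ) ∧ D P = 1 := fun P hP => by
    have h := (hpoles P).resolve_left hP
    refine ⟨h, ?_⟩
    rw [hDdef, poles, Finsupp.mapRange_apply, div_apply hK.1, ord_of_val_eq (n := (-1 : ℤ)) P (by rw [h]; rfl)]
    rfl
  have hD0 : ∀ P : Place k K, P.1 x ≤ 1 → D P = 0 := fun P hP => by
    have h := (val_le_one_iff P (fun e : x = 0 => hxt (e ▸ isAlgebraic_zero))).mp hP
    rw [hDdef, poles, Finsupp.mapRange_apply, div_apply hK.1]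
    omega
  have hreg : ∀ P : Place k K, P.1 x ≤ 1 → ∀ v ∈ FunFld.L D, P.1 v ≤ 1 := fun P hP v hv => by
    have := hv P
    rwa [hD0 P hP, exp_zero] at this
  let dl : K →ₗ[k] K :=
    { toFun := d, map_add' := map_add d,
      map_smul' := fun c v => by
        rw [RingHom.id_apply, Algebra.smul_def, hd.1, hd.2.1, mul_zero, add_zero, ← Algebra.smul_def] }
  let T : (L ≃ₐ[F] L) → (K →ₗ[k] L) := fun g =>
    (((emb g : K →ₐ[F] L).restrictScalars k).toLinearMap)
  have hext : ∀ g h : L ≃ₐ[F] L, emb (K := K) g ≠ emb h → emb g a ≠ emb h a := by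
    intro g h hne heq
    refine hne (AlgHom.ext fun z => ?_)
    have hz : z ∈ adjoin k ({x, a} : Set K) := hgen ▸ mem_top
    induction hz using adjoin_induction with
    | mem u hu => rcases hu with rfl | rfl; · rw [hembx, hembx]
                  · exact heq
    | algebraMap c => rw [emb_const, emb_const]
    | add u v _ _ hu hv => rw [map_add, map_add, hu, hv]
    | inv u _ hu => rw [map_inv₀, map_inv₀, hu]
    | mul u v _ _ hu hv => rw [map_mul, map_mul, hu, hv]
  -- the two kinds of rows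
  let G₁ := {g : L ≃ₐ[F] L // emb (K := K) g ≠ emb 1}
  let G₂ := {p : (L ≃ₐ[F] L) × (L ≃ₐ[F] L) //
    emb (K := K) p.1 ≠ emb 1 ∧ emb (K := K) p.2 ≠ emb 1 ∧ emb (K := K) p.1 ≠ emb p.2}
  let U₁ : G₁ ⊕ G₂ → (K →ₗ[k] L) := Sum.elim (fun g => T g.1 - T 1) (fun p => T p.1.1 - T 1)
  let U₂ : G₁ ⊕ G₂ → (K →ₗ[k] L) := Sum.elim (fun g => (T g.1 - T 1) ∘ₗ dl) (fun p => T p.1.2 - T 1)
  let m : G₁ ⊕ G₂ → ι → ι → L := fun s i j => U₁ s (e i) * U₂ s (e j) - U₁ s (e j) * U₂ s (e i)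
  have hminor : ∀ s, ∃ i j, m s i j ≠ 0 := by
    intro s
    by_contra! hall
    have hmem : ∀ i : ℕ, i ≤ 3 → w * a ^ i ∈ Submodule.span k (Set.range e) := fun i hi => hspan ▸ hwa i hi
    have hzero : ∀ g : L ≃ₐ[F] L, emb (K := K) g ≠ emb 1 →
        ¬ ∀ v ∈ Submodule.span k (Set.range e), (T g - T 1) v = 0 := fun g hg hv => by
      have h0 : emb (K := K) g w - emb (K := K) (1 : L ≃ₐ[F] L) w = 0 := by
        have := hv _ (hmem 0 (by omega)); rwa [pow_zero, mul_one] at this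
      have h1 : emb g (w * a) - emb (K := K) (1 : L ≃ₐ[F] L) (w * a) = 0 := by
        have := hv _ (hmem 1 (by omega)); rwa [pow_one] at this
      rw [map_mul, map_mul, sub_eq_zero.1 h0, ← mul_sub, mul_eq_zero] at h1
      exact hext g 1 hg (sub_eq_zero.1 (h1.resolve_left ((map_ne_zero (emb (K := K) 1)).2 hw)))
    rcases proportional_of_minors (U₁ s) (U₂ s) hall with h | ⟨l, hl⟩
    · rcases s with g | p
      · exact hzero g.1 g.2 h
      · exact hzero p.1.1 p.2.1 h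
    · rcases s with g | p
      · exact pair_false (emb (K := K) (1 : L ≃ₐ[F] L)).toRingHom (emb g.1).toRingHom hd.1 hw hda
          (hext _ _ (Ne.symm g.2)) l fun i hi => hl _ (hmem i hi)
      · exact triple_false (emb (K := K) (1 : L ≃ₐ[F] L)).toRingHom (emb p.1.1).toRingHom
          (emb p.1.2).toRingHom hw (hext _ _ (Ne.symm p.2.1)) (hext _ _ (Ne.symm p.2.2.1))
          (hext _ _ p.2.2.2) l fun i hi => hl _ (hmem i (by omega))
  choose mi mj hm using hminor
  have havoid := fun s => exists_avoid hKL (fun l => U₁ s (e l)) (fun l => U₂ s (e l)) (mi s) (mj s) (hm s)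
  choose Pav hPav0 hPav using havoid
  -- exceptional values
  obtain ⟨B, hB, hBgood⟩ := Castel.exists_reduced_fibres hK hxD
  let B' : Set k := B ∪ ⋃ s, (fun R => pv R xL) '' {R : Place k L | R.1 (m s (mi s) (mj s)) ≤ 1 ∧ pv R (m s (mi s) (mj s)) = 0}
  haveI : Fintype (L ≃ₐ[F] L) := Fintype.ofFinite _
  have hB' : B'.Finite := hB.union (Set.finite_iUnion fun s => (finite_pv_eq_zero hKL (hm s)).image _)
  let S : Set (Place k K) := {P | P.1 x ≤ 1 ∧ pv P x ∈ B'}
  have hS : S.Finite := by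
    refine (hB'.biUnion fun c _ => finite_pv_eq_zero hK (x := x - algebraMap k K c) (fun h => hxt (by
      rw [sub_eq_zero.mp h]; exact isAlgebraic_algebraMap c))).subset fun P hP => ?_
    refine Set.mem_biUnion hP.2 ?_
    refine ⟨le_one_sub hP.1 (P.2.1 _), pv_eq ?_⟩
    rw [map_zero, sub_zero]
    exact pv_spec hK hP.1
  let S' : Set (Place k K) := {P | ¬ P.1 x ≤ 1}
  have hS' : S'.Finite := finite_not_le_one hK x
  haveI := hS.fintype; haveI := hS'.fintype
  -- the linear conditions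
  let Lin₁ := {p : S × S // p.1.1 ≠ p.2.1}
  let Lin₂ := {p : S' × S' // p.1.1 ≠ p.2.1}
  let sub : Lin₁ ⊕ Lin₂ ⊕ S ⊕ G₁ → Submodule k (ι → k) := Sum.elim
    (fun p => (sameAt p.1.1.1 p.1.2.1).comap Y) <| Sum.elim
    (fun p => (sameAt p.1.1.1 p.1.2.1).comap ((LinearMap.mulRight k x⁻¹).comp Y)) <| Sum.elim
    (fun P => (critAt P.1).comap Y) (fun g => LinearMap.ker ((T g.1 - T 1).comp Y))
  have hsub : ∀ c, sub c ≠ ⊤ := by
    rintro (⟨⟨P, Q⟩, hne⟩ | ⟨⟨P, Q⟩, hne⟩ | P | g) htop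
    · obtain ⟨v, hv, hvP, hv0, hvQ⟩ := exists_sep_member hK (hell P.1 Q.1)
      obtain ⟨a, rfl⟩ := hYsurj v hv
      obtain ⟨c, h1, h2⟩ : Y a ∈ sameAt P.1 Q.1 := (show a ∈ sub (Sum.inl ⟨(P, Q), hne⟩) from htop ▸ trivial)
      have hP0 : P.1.1 (Y a) < 1 := by
        have := hvP P.1
        rw [Finsupp.sub_apply, Finsupp.single_eq_same, hD0 _ P.2.1] at this
        exact (le_exp_neg_one_iff P.1).1 this
      have hc : c = 0 := by
        rw [← pv_eq h1, pv_eq (c := (0 : k)) (by rw [map_zero, sub_zero]; exact hP0)]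
      rw [hc, map_zero, sub_zero, val_eq_exp _ hv0, hvQ, Finsupp.sub_apply, hD0 _ Q.2.1,
        Finsupp.single_eq_of_ne (Ne.symm hne)] at h2
      simp at h2
    · obtain ⟨v, hv, hvP, hv0, hvQ⟩ := exists_sep_member hK (hell P.1 Q.1)
      obtain ⟨a, rfl⟩ := hYsurj v hv
      obtain ⟨c, h1, h2⟩ : Y a * x⁻¹ ∈ sameAt P.1 Q.1 :=
        (show a ∈ sub (Sum.inr (Sum.inl ⟨(P, Q), hne⟩)) from htop ▸ trivial)
      obtain ⟨hPx, hPD⟩ := hD1 _ P.2
      obtain ⟨hQx, hQD⟩ := hD1 _ Q.2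
      have hP0 : P.1.1 (Y a * x⁻¹) < 1 := by
        have := hvP P.1
        rw [Finsupp.sub_apply, Finsupp.single_eq_same, hPD, sub_self, exp_zero] at this
        rw [map_mul, map_inv₀, hPx, ← exp_neg]
        refine (mul_le_of_le_one_left' this).trans_lt ?_
        rw [← exp_zero, exp_lt_exp]; norm_num
      have hc : c = 0 := by
        rw [← pv_eq h1, pv_eq (c := (0 : k)) (by rw [map_zero, sub_zero]; exact hP0)]
      rw [hc, map_zero, sub_zero, map_mul, map_inv₀, hQx, val_eq_exp _ hv0, hvQ, Finsupp.sub_apply, hQD,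
        Finsupp.single_eq_of_ne (Ne.symm hne), ← exp_neg, ← exp_add] at h2
      simp at h2
    · obtain ⟨v, hv, hvP, hv0, hvQ⟩ := exists_sep_member hK (hell P.1 P.1)
      obtain ⟨a, rfl⟩ := hYsurj v hv
      obtain ⟨c, h1⟩ : Y a ∈ critAt P.1 := (show a ∈ sub (Sum.inr (Sum.inr (Sum.inl P))) from htop ▸ trivial)
      have hP0 : P.1.1 (Y a) < 1 := by
        have := hvP P.1
        rw [Finsupp.sub_apply, Finsupp.single_eq_same, hD0 _ P.2.1] at this
        exact (le_exp_neg_one_iff P.1).1 this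
      have h1' : P.1.1 (Y a - algebraMap k K c) < 1 := h1.trans_lt (by rw [← exp_zero, exp_lt_exp]; norm_num)
      have hc : c = 0 := by
        rw [← pv_eq h1', pv_eq (c := (0 : k)) (by rw [map_zero, sub_zero]; exact hP0)]
      rw [hc, map_zero, sub_zero, val_eq_exp _ hv0, hvQ, Finsupp.sub_apply, hD0 _ P.2.1,
        Finsupp.single_eq_same, exp_le_exp] at h1
      omega
    · have hall : ∀ v ∈ FunFld.L D, emb g.1 v = emb 1 v := fun v hv => by
        obtain ⟨a, rfl⟩ := hYsurj v hv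
        exact sub_eq_zero.1 (show a ∈ sub (Sum.inr (Sum.inr (Sum.inr g))) from htop ▸ trivial)
      have h0 := hall _ (hwa 0 (by omega))
      have h1 := hall _ (hwa 1 (by omega))
      rw [pow_zero, mul_one] at h0
      rw [pow_one, map_mul, map_mul, h0] at h1
      exact hext g.1 1 g.2 (mul_left_cancel₀ ((map_ne_zero (emb (K := K) 1)).2 hw) h1)
  choose Pl hPl0 hPl using fun c => exists_poly_of_ne_top (hsub c)
  -- the choice
  set Φ : MvPolynomial ι k := (∏ s, Pav s) * ∏ c, Pl c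
  have hΦ : Φ ≠ 0 := mul_ne_zero (Finset.prod_ne_zero_iff.2 fun s _ => hPav0 s)
    (Finset.prod_ne_zero_iff.2 fun c _ => hPl0 c)
  obtain ⟨α, hα⟩ : ∃ α, MvPolynomial.eval α Φ ≠ 0 := by
    by_contra! h
    exact hΦ (MvPolynomial.funext fun α => by rw [h α, map_zero])
  simp only [Φ, map_mul, map_prod, mul_ne_zero_iff, Finset.prod_ne_zero_iff] at hα
  obtain ⟨hα1, hα2⟩ := hα
  have hnot : ∀ c, α ∉ sub c := fun c h => hα2 c (Finset.mem_univ _) (hPl c α h)
  set y := Y α with hydef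
  have hyL : y ∈ FunFld.L D := hYL α
  have hBp : ∀ P : Place k K, P.1 x ≤ 1 → pv P x ∉ B' → P.1 (x - algebraMap k K (pv P x)) = exp (-1 : ℤ) :=
    fun P hP hc => by
      have h := hBgood _ (fun hh => hc (Or.inl hh)) P (pv_spec hK hP)
      rw [val_eq_exp P (fun e => hxt (by rw [sub_eq_zero.mp e]; exact isAlgebraic_algebraMap _)), h]
  -- rows at a good place of the closure
  have hrows : ∀ (s : G₁ ⊕ G₂) (R : Place k L) (P Q : Place k K) (c : k), Induces R (1 : L ≃ₐ[F] L) P →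
      c ∉ B' → P.1 (x - algebraMap k K c) = exp (-1 : ℤ) →
      (∀ l, R.1 (U₁ s (e l)) ≤ 1) → (∀ l, R.1 (U₂ s (e l)) ≤ 1) →
      pv R (U₁ s y) = 0 → pv R (U₂ s y) = 0 → False := by
    intro s R P Q c hR hc hP h1 h2 z1 z2
    have hxP : P.1 x ≤ 1 := le_one_of_lt (x := x) (c := c) (by rw [hP, ← exp_zero, exp_lt_exp]; norm_num)
    have hxR : pv R xL = c := by
      rw [← hembx 1, (Induces.value hK hR).2.2 hxP]
      exact pv_eq (by rw [hP, ← exp_zero, exp_lt_exp]; norm_num)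
    have hm1 : R.1 (m s (mi s) (mj s)) ≤ 1 := le_one_sub (le_one_mul (h1 _) (h2 _)) (le_one_mul (h1 _) (h2 _))
    have hsum : ∀ U : K →ₗ[k] L, (∀ l, R.1 (U (e l)) ≤ 1) → ∑ l, α l * pv R (U (e l)) = pv R (U y) := fun U hU => by
      rw [hydef, hY, map_sum]
      simp only [map_smul]
      exact (pv_sum hKL Finset.univ α _ hU).2.symm
    refine hα1 s (Finset.mem_univ _) (hPav s R h1 h2 (fun h0 => hc ?_) α
      ((hsum _ h1).trans z1) ((hsum _ h2).trans z2))
    exact Or.inr (Set.mem_iUnion.2 ⟨s, R, ⟨hm1, h0⟩, hxR⟩)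
  have hT : ∀ {R : Place k L} {P Q : Place k K} {g : L ≃ₐ[F] L}, Induces R (1 : L ≃ₐ[F] L) P → Induces R g Q →
      ∀ v : K, P.1 v ≤ 1 → Q.1 v ≤ 1 → R.1 ((T g - T 1) v) ≤ 1 ∧ pv R ((T g - T 1) v) = pv Q v - pv P v := by
    intro R P Q g hP hQ v hv hv'
    have h1 := (Induces.value hK hP).1.2 hv
    have h2 := (Induces.value hK hQ).1.2 hv'
    refine ⟨le_one_sub h2 h1, ?_⟩
    show pv R (emb g v - emb 1 v) = _
    rw [pv_sub hKL h2 h1, (Induces.value hK hQ).2.2 hv', (Induces.value hK hP).2.2 hv]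
  have hnegx : ∀ {P : Place k K} {c : k}, P.1 (x - algebraMap k K c) = exp (-1 : ℤ) → ∀ v, P.1 v ≤ 1 → P.1 (d v) ≤ 1 :=
    fun h v hv => deriv_le_one hK hxD hd h hv
  have hne_emb : ∀ {R : Place k L} {P Q : Place k K} {g h : L ≃ₐ[F] L}, Induces R g P → Induces R h Q → P ≠ Q →
      emb (K := K) g ≠ emb h := by
    intro R P Q g h hP hQ hne heq
    refine hne (place_eq_of_le fun z hz => (Induces.value hK hQ).1.1 ?_)
    rw [← heq]
    exact (Induces.value hK hP).1.2 hz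
  have hgood : ∀ P Q : Place k K, P ≠ Q → P.1 x ≤ 1 → Q.1 x ≤ 1 → pv P x = pv Q x → pv P y = pv Q y →
      pv P x ∉ B' := fun P Q hne hP hQ hx hy hc => hnot (Sum.inl ⟨(⟨P, hP, hc⟩, ⟨Q, hQ, hx ▸ hc⟩), hne⟩)
    ⟨pv P y, pv_spec hK (hreg P hP _ hyL), hy ▸ pv_spec hK (hreg Q hQ _ hyL)⟩
  have hlift : ∀ P Q : Place k K, P ≠ Q → P.1 x ≤ 1 → Q.1 x ≤ 1 → pv P x = pv Q x →
      ∃ (R : Place k L) (g : G₁), Induces R (1 : L ≃ₐ[F] L) P ∧ Induces R g.1 Q := by
    intro P Q hne hP hQ hx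
    obtain ⟨R, hR, hall⟩ := exists_common hK hF (L := L) (x := g₀) (huniq (pv P x)) P (by rw [hgx]; exact pv_spec hK hP)
    obtain ⟨g, hg⟩ := hall Q (by rw [hgx, hx]; exact pv_spec hK hQ)
    exact ⟨R, ⟨g, hne_emb hg hR (Ne.symm hne)⟩, hR, hg⟩
  refine ⟨y, ?_, hxt, fun P hP => ?_, fun P Q hP hQ hne h => ?_, fun P hP => hreg P hP _ hyL,
    fun P hP => ?_, fun P Q hne hP hQ hx hy => ?_, fun P Q S hPQ hPS hQS hP hQ hS hx1 hx2 hy1 hy2 => ?_⟩
  · -- generation
    refine eq_top_iff.2 fun z _ => ?_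
    have hzF : z ∈ F⟮y⟯ := by
      let yL : L := algebraMap K L y
      have hfix : algebraMap K L z ∈ IntermediateField.fixedField (F⟮yL⟯).fixingSubgroup := fun g => by
        obtain ⟨g, hg⟩ := g
        have hgy : g yL = yL := hg ⟨yL, mem_adjoin_simple_self F yL⟩
        by_contra hz
        refine hnot (Sum.inr (Sum.inr (Sum.inr ⟨g, fun h => hz (DFunLike.congr_fun h z)⟩))) ?_
        exact sub_eq_zero.2 hgy
      rw [IsGalois.fixedField_fixingSubgroup] at hfix
      have hmap : (F⟮y⟯).map (IsScalarTower.toAlgHom F K L) = F⟮yL⟯ := by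
        rw [adjoin_map, Set.image_singleton]; rfl
      rw [← hmap] at hfix
      obtain ⟨z', hz', he⟩ := hfix
      exact (algebraMap K L).injective he ▸ hz'
    clear * - hzF hFx
    induction hzF using adjoin_induction with
    | mem u hu => exact subset_adjoin k _ (Or.inr hu)
    | algebraMap f => exact adjoin.mono k _ _ (by simp) (hFx f)
    | add u v _ _ hu hv => exact add_mem hu hv
    | inv u _ hu => exact inv_mem hu
    | mul u v _ _ hu hv => exact mul_mem hu hv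
  · obtain ⟨h1, h2⟩ := hD1 P hP
    refine ⟨h1, ?_⟩
    rw [map_div₀, h1, div_le_one₀ (zero_lt_iff.mpr exp_ne_zero)]
    exact h2 ▸ hyL P
  · have hle : ∀ P : Place k K, ¬ P.1 x ≤ 1 → P.1 (y / x) ≤ 1 := fun P hP => by
      obtain ⟨h1, h2⟩ := hD1 P hP
      rw [map_div₀, h1, div_le_one₀ (zero_lt_iff.mpr exp_ne_zero)]
      exact h2 ▸ hyL P
    refine hnot (Sum.inr (Sum.inl ⟨(⟨P, hP⟩, ⟨Q, hQ⟩), hne⟩)) ?_
    show y * x⁻¹ ∈ sameAt P Q
    rw [← div_eq_mul_inv]
    exact ⟨pv P (y / x), pv_spec hK (hle P hP), h ▸ pv_spec hK (hle Q hQ)⟩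
  · by_cases hc : pv P x ∈ B'
    · refine Or.inr (le_antisymm ((le_exp_neg_one_iff P).2 (pv_spec hK (hreg P hP _ hyL))) (not_lt.1 fun hlt => ?_))
      refine hnot (Sum.inr (Sum.inr (Sum.inl ⟨P, hP, hc⟩))) ⟨pv P y, ?_⟩
      rcases eq_or_ne (y - algebraMap k K (pv P y)) 0 with h0 | h0
      · show P.1 _ ≤ _
        rw [show Y α - algebraMap k K (pv P y) = 0 from h0, map_zero]; exact zero_le
      · show P.1 (y - algebraMap k K (pv P y)) ≤ _
        rw [val_eq_exp P h0, exp_lt_exp] at hlt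
        rw [val_eq_exp P h0, exp_le_exp]; omega
    · exact Or.inl (hBp P hP hc)
  · have hc := hgood P Q hne hP hQ hx hy
    have hPu := hBp P hP hc
    have hQu : Q.1 (x - algebraMap k K (pv P x)) = exp (-1 : ℤ) := by
      have := hBp Q hQ (hx ▸ hc); rwa [← hx] at this
    have hyP := hreg P hP _ hyL
    have hyQ := hreg Q hQ _ hyL
    refine ⟨pv P (d y), pv Q (d y), fun heq => ?_, hPu, hQu, slope_spec hK hxD hd hPu hyP,
      hy ▸ slope_spec hK hxD hd hQu hyQ⟩
    obtain ⟨R, g, hR, hg⟩ := hlift P Q hne hP hQ hx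
    refine hrows (Sum.inl g) R P Q _ hR hc hPu (fun l => (hT hR hg _ (hreg P hP _ (heL l)) (hreg Q hQ _ (heL l))).1)
      (fun l => (hT hR hg _ (hnegx hPu _ (hreg P hP _ (heL l))) (hnegx hQu _ (hreg Q hQ _ (heL l)))).1) ?_ ?_
    · exact (hT hR hg y hyP hyQ).2.trans (sub_eq_zero.2 hy.symm)
    · exact (hT hR hg (d y) (hnegx hPu _ hyP) (hnegx hQu _ hyQ)).2.trans (sub_eq_zero.2 heq.symm)
  · have hc := hgood P Q hPQ hP hQ hx1 hy1
    obtain ⟨R, hR, hall⟩ := exists_common hK hF (L := L) (x := g₀) (huniq (pv P x)) P (by rw [hgx]; exact pv_spec hK hP)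
    obtain ⟨g, hg⟩ := hall Q (by rw [hgx, hx1]; exact pv_spec hK hQ)
    obtain ⟨h, hh⟩ := hall S (by rw [hgx, hx2]; exact pv_spec hK hS)
    let s : G₂ := ⟨(g, h), hne_emb hg hR (Ne.symm hPQ), hne_emb hh hR (Ne.symm hPS), hne_emb hg hh hQS⟩
    refine hrows (Sum.inr s) R P Q _ hR hc (hBp P hP hc) (fun l => (hT hR hg _ (hreg P hP _ (heL l)) (hreg Q hQ _ (heL l))).1)
      (fun l => (hT hR hh _ (hreg P hP _ (heL l)) (hreg S hS _ (heL l))).1) ?_ ?_
    · exact (hT hR hg y (hreg P hP _ hyL) (hreg Q hQ _ hyL)).2.trans (sub_eq_zero.2 hy1.symm)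
    · exact (hT hR hh y (hreg P hP _ hyL) (hreg S hS _ hyL)).2.trans (sub_eq_zero.2 hy2.symm)

/-- There is a plane model with ordinary double points only. -/
theorem exists_nodalPair : ∃ x y : K, NodalPair k x y := by
  obtain ⟨x, w, a, d, hxt, hxD, hd, hpoles, hell, hw, hda, hgen, hwa⟩ := exists_setup hK
  have hsep := (separating_of_D_ne hK (isGeometric_of_perfect hK) hxD).2
  haveI := IsFF.finite_adjoin hK.1 hxt
  haveI := hsep
  obtain ⟨M, iL, iA, iF, iK, iT₁, iT₂, iT₃, iFin, hGal⟩ := exists_closure k K k⟮x⟯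
  exact ⟨x, @exists_ordinate k K _ _ _ _ hK k⟮x⟯ _ _ _ _ M iL iA iF iK iT₁ iT₂ iT₃ iFin hGal (isFF_adjoin hxt)
    (AdjoinSimple.gen k x) x w a rfl (fun f => f.2) (fun c A B => place_adjoin_eq hxt) d hxt hxD hd hpoles hell
    hw hda hgen hwa⟩

end Groth.Agent.CurvFam16.NodalPlane
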