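import Groth.Agent.CurvFam16.NodalPlane.Elim
import Groth.Agent.CurvFam16.Castel.Pencil
import Groth.Agent.FFLib.Ext
import Groth.Agent.FFLib.Diff.Nonsing
import Mathlib.FieldTheory.Normal.Closure
import Mathlib.FieldTheory.SeparableClosure

/-! Places of a Galois closure and their values. -/

set_option linter.style.haveILetI false
set_option linter.unusedSectionVars false
set_option backward.isDefEq.respectTransparency false
set_option backward.isDefEq.respectTransparency.types false

namespace Groth.Agent.CurvFam16.NodalPlane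

open FunFld WithZero IntermediateField
open Groth.Agent.FFLib Groth.Agent.LS17

universe u

variable {k K : Type u} [Field k] [Field K] [Algebra k K] [IsAlgClosed k]

/-- The function field over an algebraically closed field of constants. -/
theorem isFunctionField_of_isFF (hF : IsFF k K) : IsFunctionField k K :=
  ⟨hF, fun x hx => (IsAlgClosed.algebraMap_bijective_of_isIntegral (K := integralClosure k K)).2
    ⟨x, hx.isIntegral⟩ |>.imp fun _ hc => congrArg Subtype.val hc⟩

/-- The value of a polynomial. -/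
theorem pv_aeval_poly (hK : IsFunctionField k K) {R : Place k K} {x : K} (hx : R.1 x ≤ 1) (p : Polynomial k) :
    R.1 (Polynomial.aeval x p) ≤ 1 ∧ pv R (Polynomial.aeval x p) = p.eval (pv R x) := by
  induction p using Polynomial.induction_on with
  | C a => rw [Polynomial.aeval_C, Polynomial.eval_C]; exact ⟨R.2.1 a, pv_const R a⟩
  | add a b ha hb =>
    rw [map_add (Polynomial.aeval x), Polynomial.eval_add]
    exact ⟨le_one_add ha.1 hb.1, by rw [pv_add hK ha.1 hb.1, ha.2, hb.2]⟩
  | monomial n a ih =>
    rw [pow_succ, ← mul_assoc, map_mul (Polynomial.aeval x), Polynomial.aeval_X, Polynomial.eval_mul,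
      Polynomial.eval_X]
    exact ⟨le_one_mul ih.1 hx, by rw [pv_mul hK ih.1 hx, ih.2]⟩

/-- The rational field has one place over each value of its generator. -/
theorem place_adjoin_eq {x : K} (hx : Transcendental k x) {c : k} {P P' : Place k k⟮x⟯}
    (h : P.1 (AdjoinSimple.gen k x - algebraMap k k⟮x⟯ c) < 1)
    (h' : P'.1 (AdjoinSimple.gen k x - algebraMap k k⟮x⟯ c) < 1) : P = P' := by
  refine place_eq_of_le fun z hz => ?_
  have hF := isFunctionField_of_isFF (isFF_adjoin hx)
  set g := AdjoinSimple.gen k x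
  have hgc : g - algebraMap k k⟮x⟯ c ≠ 0 := fun e => hx (by
    have := congrArg Subtype.val (sub_eq_zero.1 e)
    simp only [g, AdjoinSimple.coe_gen] at this
    rw [this]
    exact isAlgebraic_algebraMap c)
  obtain ⟨r, s, hrs⟩ := mem_adjoin_simple_iff k (α := x) (z : K) |>.mp z.2
  have hz' : z = Polynomial.aeval g r / Polynomial.aeval g s := Subtype.ext (by
    rw [hrs, IntermediateField.coe_div, ← IntermediateField.aeval_coe, ← IntermediateField.aeval_coe,
      AdjoinSimple.coe_gen])
  rcases eq_or_ne r 0 with rfl | hr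
  · rw [hz', map_zero, zero_div, map_zero]; exact zero_le
  rcases eq_or_ne s 0 with rfl | hs
  · rw [hz', map_zero, div_zero, map_zero]; exact zero_le
  have key : ∀ (Q : Place k k⟮x⟯), Q.1 (g - algebraMap k k⟮x⟯ c) < 1 → ∀ p : Polynomial k, p ≠ 0 →
      Polynomial.aeval g p ≠ 0 ∧
        Q.ord (Polynomial.aeval g p) = p.rootMultiplicity c * Q.ord (g - algebraMap k k⟮x⟯ c) := by
    intro Q hQ p hp
    obtain ⟨q, hq, hqc⟩ := Polynomial.exists_eq_pow_rootMultiplicity_mul_and_not_dvd p hp c
    obtain ⟨hq1, hq2⟩ := pv_aeval_poly hF (le_one_of_lt hQ) q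
    have hq0 : pv Q (Polynomial.aeval g q) ≠ 0 := fun e => hqc (by
      rw [Polynomial.dvd_iff_isRoot, Polynomial.IsRoot, ← pv_eq hQ, ← hq2, e])
    have hne : Polynomial.aeval g q ≠ 0 := fun e => hq0 (by rw [e, pv_zero])
    have hord : Q.ord (Polynomial.aeval g q) = 0 := by
      have := val_eq_one_of_pv hF hq1 hq0
      rw [val_eq_exp Q hne, exp_eq_one] at this
      omega
    have e : Polynomial.aeval g p = (g - algebraMap k k⟮x⟯ c) ^ p.rootMultiplicity c * Polynomial.aeval g q := by
      conv_lhs => rw [hq]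
      rw [map_mul, map_pow, map_sub, Polynomial.aeval_X, Polynomial.aeval_C]
    rw [e]
    exact ⟨mul_ne_zero (pow_ne_zero _ hgc) hne, by rw [ord_mul Q (pow_ne_zero _ hgc) hne, ord_pow, hord, add_zero]⟩
  obtain ⟨hr0, hr1⟩ := key P h r hr
  obtain ⟨hs0, hs1⟩ := key P h s hs
  obtain ⟨-, hr1'⟩ := key P' h' r hr
  obtain ⟨-, hs1'⟩ := key P' h' s hs
  have hzne : Polynomial.aeval g r / Polynomial.aeval g s ≠ 0 := div_ne_zero hr0 hs0
  rw [hz', val_le_one_iff _ hzne, div_eq_mul_inv, ord_mul _ hr0 (inv_ne_zero hs0), ord_inv] at hz ⊢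
  rw [hr1, hs1] at hz
  rw [hr1', hs1']
  have h1 := (val_lt_one_iff P hgc).mp h
  have h2 := (val_lt_one_iff P' hgc).mp h'
  nlinarith

variable {F : Type u} [Field F] [Algebra k F] [Algebra F K] [IsScalarTower k F K] {L : Type u} [Field L]
  [Algebra k L] [Algebra F L] [Algebra K L] [IsScalarTower k F L] [IsScalarTower k K L] [IsScalarTower F K L]
  [FiniteDimensional F L]

/-- An embedding of the function field into the closure. -/
noncomputable def emb (g : L ≃ₐ[F] L) : K →ₐ[F] L :=
  (g : L →ₐ[F] L).comp (IsScalarTower.toAlgHom F K L)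

theorem emb_apply (g : L ≃ₐ[F] L) (z : K) : emb g z = g (algebraMap K L z) := rfl

theorem emb_const (g : L ≃ₐ[F] L) (c : k) : emb g (algebraMap k K c) = algebraMap k L c := by
  rw [IsScalarTower.algebraMap_apply k F K, AlgHom.commutes, ← IsScalarTower.algebraMap_apply]

theorem emb_algebraMap (g : L ≃ₐ[F] L) (z : F) : emb g (algebraMap F K z) = algebraMap F L z := by
  rw [emb_apply, ← IsScalarTower.algebraMap_apply F K L, g.commutes]

/-- The place of `K` induced by a place of the closure through an embedding. -/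
def Induces (R : Place k L) (g : L ≃ₐ[F] L) (P : Place k K) : Prop :=
  IsOver (placeComap (g.restrictScalars k) R) P

theorem exists_induced (hK : IsFunctionField k K) (R : Place k L) (g : L ≃ₐ[F] L) :
    ∃ P : Place k K, Induces R g P := by
  haveI : FiniteDimensional K L := Module.Finite.of_restrictScalars_finite F K L
  obtain ⟨P, e, -, he⟩ := FFLib.exists_over hK.1 (placeComap (g.restrictScalars k) R)
  exact ⟨P, e, he⟩

/-- Values are read below. -/
theorem Induces.value (hK : IsFunctionField k K) {R : Place k L} {g : L ≃ₐ[F] L} {P : Place k K}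
    (h : Induces R g P) {z : K} :
    (R.1 (emb g z) ≤ 1 ↔ P.1 z ≤ 1) ∧ (R.1 (emb g z) < 1 ↔ P.1 z < 1) ∧
      (P.1 z ≤ 1 → pv R (emb g z) = pv P z) := by
  haveI : FiniteDimensional K L := Module.Finite.of_restrictScalars_finite F K L
  obtain ⟨e, he⟩ := h
  have hpos : e ≠ 0 := by have := over_pos hK.1 he; omega
  have hv : ∀ z, R.1 (emb g z) = P.1 z ^ e := he
  refine ⟨by rw [hv, pow_le_one_iff hpos], by rw [hv, pow_lt_one_iff hpos], fun hz => pv_eq ?_⟩
  rw [← emb_const (K := K) g, ← map_sub, hv]
  exact pow_lt_one₀ zero_le (pv_spec hK hz) hpos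

/-- Two places over the same value are induced from one place of the closure. -/
theorem exists_common (hK : IsFunctionField k K) (hF : IsFF k F) [IsGalois F L] {x : F} {c : k}
    (huniq : ∀ A B : Place k F, A.1 (x - algebraMap k F c) < 1 → B.1 (x - algebraMap k F c) < 1 → A = B)
    (P : Place k K) (hP : P.1 (algebraMap F K x - algebraMap k K c) < 1) :
    ∃ R : Place k L, Induces R (1 : L ≃ₐ[F] L) P ∧
      ∀ Q : Place k K, Q.1 (algebraMap F K x - algebraMap k K c) < 1 → ∃ g : L ≃ₐ[F] L, Induces R g Q := by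
  haveI : FiniteDimensional K L := Module.Finite.of_restrictScalars_finite F K L
  obtain ⟨R, hR⟩ := exists_isOver (K' := L) hK.1 P
  refine ⟨R, ?_, fun Q hQ => ?_⟩
  · obtain ⟨e, he⟩ := hR
    exact ⟨e, fun z => he z⟩
  obtain ⟨R', hR'⟩ := exists_isOver (K' := L) hK.1 Q
  have key : ∀ (S : Place k K) (T : Place k L), IsOver T S → S.1 (algebraMap F K x - algebraMap k K c) < 1 →
      ∃ S₀ : Place k F, IsOver T S₀ ∧ S₀.1 (x - algebraMap k F c) < 1 := by
    rintro S T ⟨e, he⟩ hS
    obtain ⟨S₀, e₀, he₀, he₀'⟩ := FFLib.exists_over hF T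
    refine ⟨S₀, ⟨e₀, he₀'⟩, ?_⟩
    rw [← pow_lt_one_iff (show e₀ ≠ 0 by omega), ← he₀', IsScalarTower.algebraMap_apply F K L, he]
    refine pow_lt_one₀ zero_le ?_ (by have := over_pos hK.1 he; omega)
    rw [map_sub, ← IsScalarTower.algebraMap_apply k F K]
    exact hS
  obtain ⟨A, hA, hAc⟩ := key P R hR hP
  obtain ⟨B, hB, hBc⟩ := key Q R' hR' hQ
  obtain rfl := huniq A B hAc hBc
  obtain ⟨g, hg⟩ := exists_conj hF hA hB
  refine ⟨g, ?_⟩
  show IsOver _ Q
  rw [hg]
  exact hR'

/-- Existence of the closure. -/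
theorem exists_closure (k K : Type u) [Field k] [Field K] [Algebra k K] (F : Type u) [Field F] [Algebra k F]
    [Algebra F K] [IsScalarTower k F K] [FiniteDimensional F K] [Algebra.IsSeparable F K] :
    ∃ (L : Type u) (_ : Field L) (_ : Algebra k L) (_ : Algebra F L) (_ : Algebra K L)
      (_ : IsScalarTower k F L) (_ : IsScalarTower k K L) (_ : IsScalarTower F K L)
      (_ : FiniteDimensional F L), IsGalois F L := by
  let N := IntermediateField.normalClosure F K (AlgebraicClosure K)
  haveI : Algebra.IsAlgebraic F (AlgebraicClosure K) := Algebra.IsAlgebraic.trans F K (AlgebraicClosure K)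
  haveI : IsAlgClosure F (AlgebraicClosure K) := ⟨inferInstance, inferInstance⟩
  haveI : Normal F (AlgebraicClosure K) := IsAlgClosure.normal _ _
  haveI : Algebra.IsSeparable F N := by
    refine (le_separableClosure_iff F (AlgebraicClosure K) N).1 ((normalClosure_le_iff).2 fun f => ?_)
    rintro _ ⟨z, rfl⟩
    refine mem_separableClosure_iff.2 ?_
    show Polynomial.Separable (minpoly F (f z))
    rw [minpoly.algHom_eq f f.injective]
    exact Algebra.IsSeparable.isSeparable F z
  haveI : IsGalois F N := ⟨⟩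
  haveI : IsScalarTower F K N := IsScalarTower.of_algebraMap_eq fun z => Subtype.ext
    (IsScalarTower.algebraMap_apply F K (AlgebraicClosure K) z)
  haveI : IsScalarTower k K N := IsScalarTower.of_algebraMap_eq fun z => Subtype.ext
    (IsScalarTower.algebraMap_apply k K (AlgebraicClosure K) z)
  exact ⟨N, inferInstance, inferInstance, inferInstance, inferInstance, inferInstance, inferInstance, inferInstance,
    inferInstance, inferInstance⟩

end Groth.Agent.CurvFam16.NodalPlane
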