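import Groth.Agent.LS17.Pv
import Mathlib.RingTheory.AlgebraicIndependent.TranscendenceBasis
import Mathlib.Algebra.MvPolynomial.Funext

/-! A one-parameter family of subspaces of codimension two does not fill the space. -/

set_option linter.style.haveILetI false
set_option linter.unusedSectionVars false

namespace Groth.Agent.CurvFam16.NodalPlane

open FunFld WithZero IntermediateField
open Groth.Agent.FFLib Groth.Agent.LS17

universe u

variable {k K : Type u} [Field k] [Field K] [Algebra k K]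

/-- A function field has transcendence degree one. -/
theorem trdeg_eq_one (hK : IsFunctionField k K) : Algebra.trdeg k K = 1 := by
  obtain ⟨x, hx, hfin⟩ := hK.1
  haveI := hfin
  have halg : Algebra.IsAlgebraic k⟮x⟯ K := Algebra.IsAlgebraic.of_finite _ _
  have hind : AlgebraicIndependent k (fun _ : PUnit.{u + 1} => x) :=
    (algebraicIndependent_unique_type_iff).2 hx
  have hb : IsTranscendenceBasis k (fun _ : PUnit.{u + 1} => x) := by
    rw [hind.isTranscendenceBasis_iff_isAlgebraic, Set.range_const]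
    exact ⟨fun y => IntermediateField.isAlgebraic_adjoin_iff.1 (halg.isAlgebraic y)⟩
  rw [← hb.cardinalMk_eq_trdeg, Cardinal.mk_eq_one]

variable [IsAlgClosed k] (hK : IsFunctionField k K)
include hK

/-- Values of polynomial expressions. -/
theorem pv_aeval_mv {ι : Type*} (R : Place k K) (g : ι → K) (hg : ∀ i, R.1 (g i) ≤ 1) (P : MvPolynomial ι k) :
    R.1 (MvPolynomial.aeval g P) ≤ 1 ∧
      pv R (MvPolynomial.aeval g P) = MvPolynomial.eval (fun i => pv R (g i)) P := by
  induction P using MvPolynomial.induction_on with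
  | C a => rw [MvPolynomial.aeval_C, MvPolynomial.eval_C]; exact ⟨R.2.1 a, pv_const R a⟩
  | add p q hp hq =>
    rw [map_add (MvPolynomial.aeval g), map_add (MvPolynomial.eval _)]
    exact ⟨le_one_add hp.1 hq.1, by rw [pv_add hK hp.1 hq.1, hp.2, hq.2]⟩
  | mul_X p i hp =>
    rw [map_mul (MvPolynomial.aeval g), map_mul (MvPolynomial.eval _), MvPolynomial.aeval_X, MvPolynomial.eval_X]
    exact ⟨le_one_mul hp.1 (hg i), by rw [pv_mul hK hp.1 (hg i), hp.2]⟩

/-- The subspaces cut out by two rows of functions lie in a hypersurface. -/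
theorem exists_avoid {ι : Type u} [Fintype ι] [DecidableEq ι] (r₁ r₂ : ι → K) (i j : ι)
    (hm : r₁ i * r₂ j - r₁ j * r₂ i ≠ 0) :
    ∃ P : MvPolynomial ι k, P ≠ 0 ∧ ∀ R : Place k K, (∀ l, R.1 (r₁ l) ≤ 1) → (∀ l, R.1 (r₂ l) ≤ 1) →
      pv R (r₁ i * r₂ j - r₁ j * r₂ i) ≠ 0 → ∀ a : ι → k,
        ∑ l, a l * pv R (r₁ l) = 0 → ∑ l, a l * pv R (r₂ l) = 0 → MvPolynomial.eval a P = 0 := by
  classical
  set m := r₁ i * r₂ j - r₁ j * r₂ i with hmdef
  let S := {l : ι // l ≠ i ∧ l ≠ j}
  let A : S → K := fun l => (r₁ j * r₂ l - r₁ l * r₂ j) / m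
  let B : S → K := fun l => (r₁ l * r₂ i - r₁ i * r₂ l) / m
  let φ : MvPolynomial ι k →ₐ[k] MvPolynomial S K := MvPolynomial.aeval fun l =>
    if l = i then ∑ s, MvPolynomial.C (A s) * MvPolynomial.X s
    else if l = j then ∑ s, MvPolynomial.C (B s) * MvPolynomial.X s
    else if h : l ≠ i ∧ l ≠ j then MvPolynomial.X ⟨l, h⟩ else 0
  have hij : i ≠ j := fun e => hm (by rw [hmdef, e, sub_self])
  have hnot : ¬ Function.Injective φ := fun hinj => by
    have hind : AlgebraicIndependent k (fun l => φ (MvPolynomial.X l)) :=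
      (MvPolynomial.algebraicIndependent_X ι k).map' hinj
    have h1 := hind.cardinalMk_le_trdeg
    have h2 := lift_trdeg_add_eq k K (A := MvPolynomial S K)
    rw [trdeg_eq_one hK, MvPolynomial.trdeg_of_isDomain] at h2
    simp only [Cardinal.lift_id, Cardinal.mk_fintype] at h1 h2
    have hcard : Fintype.card S + 2 = Fintype.card ι := by
      have : Fintype.card S = (Finset.univ \ {i, j}).card := by
        rw [Fintype.card_subtype]; congr 1; ext l; simp
      rw [this, Finset.card_sdiff, Finset.inter_univ, Finset.card_univ, Finset.card_pair hij]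
      have : 2 ≤ Fintype.card ι := by
        rw [← Finset.card_pair hij]; exact Finset.card_le_univ _
      omega
    rw [← h2, ← hcard] at h1
    norm_cast at h1
    omega
  obtain ⟨P, hP, hP0⟩ : ∃ P, φ P = 0 ∧ P ≠ 0 := by
    by_contra! h
    exact hnot ((injective_iff_map_eq_zero φ).2 h)
  refine ⟨P, hP0, fun R h1 h2 hmR a e1 e2 => ?_⟩
  let g : ι → K := fun l =>
    if l = i then ∑ s, A s * algebraMap k K (a s)
    else if l = j then ∑ s, B s * algebraMap k K (a s)
    else algebraMap k K (a l)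
  have hgP : MvPolynomial.aeval g P = 0 := by
    let ev : MvPolynomial S K →ₐ[k] K :=
      (MvPolynomial.aeval fun s : S => algebraMap k K (a s)).restrictScalars k
    have : ev.comp φ = MvPolynomial.aeval g := MvPolynomial.algHom_ext fun l => by
      simp only [AlgHom.comp_apply, φ, MvPolynomial.aeval_X, g, ev, AlgHom.restrictScalars_apply]
      split_ifs with h h' h''
      · simp
      · simp
      · simp
      · exact absurd ⟨h, h'⟩ h''
    rw [← this, AlgHom.comp_apply, hP, map_zero]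
  have hmem : R.1 m ≤ 1 := le_one_sub (le_one_mul (h1 i) (h2 j)) (le_one_mul (h1 j) (h2 i))
  have hm1 : R.1 m = 1 := val_eq_one_of_pv hK hmem hmR
  have hA : ∀ s : S, R.1 (A s) ≤ 1 ∧ pv R (A s) =
      (pv R (r₁ j) * pv R (r₂ s) - pv R (r₁ s) * pv R (r₂ j)) / pv R m := fun s => by
    have hn := le_one_sub (le_one_mul (h1 j) (h2 s)) (le_one_mul (h1 s) (h2 j))
    refine ⟨by rw [map_div₀, hm1, _root_.div_one]; exact hn, ?_⟩
    rw [(pv_div hK hn hmem hmR).2, pv_sub hK (le_one_mul (h1 j) (h2 s)) (le_one_mul (h1 s) (h2 j)),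
      pv_mul hK (h1 j) (h2 s), pv_mul hK (h1 s) (h2 j)]
  have hB : ∀ s : S, R.1 (B s) ≤ 1 ∧ pv R (B s) =
      (pv R (r₁ s) * pv R (r₂ i) - pv R (r₁ i) * pv R (r₂ s)) / pv R m := fun s => by
    have hn := le_one_sub (le_one_mul (h1 s) (h2 i)) (le_one_mul (h1 i) (h2 s))
    refine ⟨by rw [map_div₀, hm1, _root_.div_one]; exact hn, ?_⟩
    rw [(pv_div hK hn hmem hmR).2, pv_sub hK (le_one_mul (h1 s) (h2 i)) (le_one_mul (h1 i) (h2 s)),
      pv_mul hK (h1 s) (h2 i), pv_mul hK (h1 i) (h2 s)]
  have hsum : ∀ (C : S → K), (∀ s, R.1 (C s) ≤ 1) →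
      R.1 (∑ s, C s * algebraMap k K (a s)) ≤ 1 ∧
        pv R (∑ s, C s * algebraMap k K (a s)) = ∑ s : S, a s * pv R (C s) := fun C hC => by
    have h := pv_sum hK Finset.univ (fun s : S => a s) C hC (P := R)
    rw [show (∑ s, C s * algebraMap k K (a s)) = ∑ s : S, (a s) • C s from
      Finset.sum_congr rfl fun s _ => by rw [Algebra.smul_def, mul_comm]]
    exact h
  obtain ⟨hgi, hgi'⟩ := hsum A fun s => (hA s).1
  obtain ⟨hgj, hgj'⟩ := hsum B fun s => (hB s).1
  have hg : ∀ l, R.1 (g l) ≤ 1 := fun l => by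
    simp only [g]; split_ifs
    · exact hgi
    · exact hgj
    · exact R.2.1 _
  have hmv : pv R m = pv R (r₁ i) * pv R (r₂ j) - pv R (r₁ j) * pv R (r₂ i) := by
    rw [hmdef, pv_sub hK (le_one_mul (h1 i) (h2 j)) (le_one_mul (h1 j) (h2 i)), pv_mul hK (h1 i) (h2 j),
      pv_mul hK (h1 j) (h2 i)]
  have split : ∀ f : ι → k, ∑ l, f l = f i + f j + ∑ s : S, f s := fun f => by
    rw [← Finset.sum_subtype (Finset.univ \ {i, j}) (by simp) f, ← Finset.sum_pair hij, add_comm,
      Finset.sum_sdiff (Finset.subset_univ _)]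
  rw [split] at e1 e2
  have comb : ∀ u v : k, ∑ s : S, a s * (u * pv R (r₂ s) - pv R (r₁ s) * v) =
      u * ∑ s : S, a s * pv R (r₂ s) - v * ∑ s : S, a s * pv R (r₁ s) := fun u v => by
    rw [Finset.mul_sum, Finset.mul_sum, ← Finset.sum_sub_distrib]
    exact Finset.sum_congr rfl fun s _ => by ring
  have comb' : ∀ u v : k, ∑ s : S, a s * (pv R (r₁ s) * v - u * pv R (r₂ s)) =
      v * ∑ s : S, a s * pv R (r₁ s) - u * ∑ s : S, a s * pv R (r₂ s) := fun u v => by
    rw [Finset.mul_sum, Finset.mul_sum, ← Finset.sum_sub_distrib]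
    exact Finset.sum_congr rfl fun s _ => by ring
  have key : (fun l => pv R (g l)) = a := by
    funext l
    simp only [g]
    split_ifs with hi hj
    · subst hi
      rw [hgi']
      simp only [(hA _).2, mul_div_assoc']
      rw [← Finset.sum_div, div_eq_iff hmR, hmv, comb]
      linear_combination (-pv R (r₂ j)) * e1 + pv R (r₁ j) * e2
    · subst hj
      rw [hgj']
      simp only [(hB _).2, mul_div_assoc']
      rw [← Finset.sum_div, div_eq_iff hmR, hmv, comb']
      linear_combination pv R (r₂ i) * e1 - pv R (r₁ i) * e2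
    · exact pv_const R _
  have h := (pv_aeval_mv hK R g hg P).2
  rw [hgP, pv_zero, key] at h
  exact h.symm

end Groth.Agent.CurvFam16.NodalPlane
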