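import Groth.Agent.CurvFam16.NodalPlane.Elim
import Groth.Agent.NodalLib.Node
import Mathlib.RingTheory.DiscreteValuationRing.TFAE
import Mathlib.RingTheory.RegularLocalRing.Defs

/-! Local rings under one or two places. -/

set_option autoImplicit false
set_option linter.style.haveILetI false
set_option linter.unusedSectionVars false
set_option backward.isDefEq.respectTransparency false
set_option backward.isDefEq.respectTransparency.types false

universe u

open IsLocalRing Module FunFld WithZero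
open scoped nonZeroDivisors

namespace Groth.Agent.CurvFam16.NodalPlane

open Groth.Agent.FFLib Groth.Agent.LS17 Groth.Agent.NodalLib

/-- Two generators with product in `𝔪³` and no single one: an ordinary double point. -/
theorem isOrdDoublePt_of_pair {k A : Type u} [Field k] [IsAlgClosed k] [CommRing A] [IsLocalRing A]
    [IsNoetherianRing A] [Algebra k A] [Module.Finite A Ω[A⁄k]]
    (hres : Function.Bijective (algebraMap k (ResidueField A))) {u v t : A}
    (hm : maximalIdeal A = Ideal.span {u, v}) (huv : u * v ∈ maximalIdeal A ^ 3)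
    (hnp : ¬ (maximalIdeal A).IsPrincipal) (ht : t ∈ maximalIdeal A) (hreg : t ∈ A⁰) :
    Curv2.IsOrdDoublePt k A := by
  refine isOrdDoublePt_of_fitt1 hres ?_ ht hreg
  refine le_antisymm (le_maximalIdeal fun h => hnp (finrank_cotangentSpace_le_one_iff.1 ((fitt1_eq_top_iff hres).1 h))) ?_
  have hx : Ideal.span (Set.range ![u, v]) = maximalIdeal A := by
    rw [hm]; simp [Set.pair_comm]
  have hgen := span_D_eq_top hres _ hx
  have hD : KaehlerDifferential.D k A (u * v) ∈ maximalIdeal A ^ 2 •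
      Submodule.span A (Set.range fun i => KaehlerDifferential.D k A (![u, v] i)) := by
    rw [hgen]; exact derivation_mem_pow_smul _ _ 2 huv
  rw [Submodule.mem_ideal_smul_span_iff_exists_sum] at hD
  obtain ⟨a, ha, hsum⟩ := hD
  rw [Finsupp.sum_fintype _ _ (by simp), Fin.sum_univ_two, Derivation.leibniz] at hsum
  let z : Fin 2 → A := ![v - a 0, u - a 1]
  have hz : z ∈ FittX.rel (R := A) (fun i => KaehlerDifferential.D k A (![u, v] i)) := by
    rw [FittX.mem_rel, Fin.sum_univ_two]
    simp only [z, Matrix.cons_val_zero, Matrix.cons_val_one, sub_smul] at hsum ⊢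
    rw [sub_add_sub_comm, hsum, add_comm (v • _), sub_self]
  have hentry : ∀ i, z i ∈ fitt1 k A := fun i => by
    rw [fitt1, FittX.ideal_eq_minors _ hgen, FittX.minors_rel_eq_span]
    refine Ideal.subset_span ⟨fun _ => z, fun _ => i, fun _ => hz, ?_⟩
    show z i = (Matrix.of fun _ _ => z i : Matrix (Fin 1) (Fin 1) A).det
    rw [Matrix.det_fin_one, Matrix.of_apply]
  refine Submodule.le_of_le_smul_of_le_jacobson_bot (IsNoetherian.noetherian _)
    (jacobson_eq_maximalIdeal ⊥ bot_ne_top).ge ?_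
  rw [smul_eq_mul, ← sq]
  conv_lhs => rw [hm]
  rw [Ideal.span_le, Set.insert_subset_iff, Set.singleton_subset_iff]
  exact ⟨Submodule.mem_sup.2 ⟨_, hentry 1, _, ha 1, by simp [z]⟩,
    Submodule.mem_sup.2 ⟨_, hentry 0, _, ha 0, by simp [z]⟩⟩

variable {k K A : Type u} [Field k] [IsAlgClosed k] [Field K] [Algebra k K] [CommRing A] [IsDomain A]
  [IsLocalRing A] [IsNoetherianRing A] [Algebra k A] [Algebra A K] [IsScalarTower k A K]
  (hK : IsFunctionField k K) (hinj : Function.Injective (algebraMap A K))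

include hK in
/-- A local ring below one place containing a uniformiser is regular. -/
theorem isRegularLocalRing_of_unif (P : Place k K)
    (hm : ∀ a : A, a ∈ maximalIdeal A ↔ P.1 (algebraMap A K a) < 1)
    (hfin : ∃ B : Submodule A K, B.FG ∧ ∀ c, c ∈ B ↔ P.1 c ≤ 1)
    {u : A} (hu : P.1 (algebraMap A K u) = exp (-1 : ℤ)) (hinj : Function.Injective (algebraMap A K)) :
    IsRegularLocalRing A := by
  obtain ⟨B, hBfg, hB⟩ := hfin
  set U := algebraMap A K u with hU
  have hU0 : U ≠ 0 := fun e => by rw [e, map_zero] at hu; exact exp_ne_zero hu.symm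
  have hum : u ∈ maximalIdeal A := (hm u).2 (by rw [hu, ← exp_zero, exp_lt_exp]; norm_num)
  have hdiv : ∀ c, P.1 c < 1 → c / U ∈ B := fun c hc => (hB _).2 (by
    rw [map_div₀, hu, div_le_one₀ (zero_lt_iff.mpr exp_ne_zero)]
    exact (le_exp_neg_one_iff P).2 hc)
  have hB1 : B ≤ 1 := by
    refine Submodule.le_of_le_smul_of_le_jacobson_bot hBfg (jacobson_eq_maximalIdeal ⊥ bot_ne_top).ge fun c hc => ?_
    refine Submodule.mem_sup.2 ⟨algebraMap k K (pv P c),
      Submodule.mem_one.2 ⟨algebraMap k A (pv P c), (IsScalarTower.algebraMap_apply k A K _).symm⟩, c - algebraMap k K (pv P c), ?_, add_sub_cancel _ _⟩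
    have h := Submodule.smul_mem_smul hum (hdiv _ (pv_spec hK ((hB c).1 hc)))
    rwa [Algebra.smul_def u, ← hU, mul_div_cancel₀ _ hU0] at h
  have hmu : maximalIdeal A = Ideal.span {u} := by
    refine le_antisymm (fun s hs => ?_) ((Ideal.span_singleton_le_iff_mem _).2 hum)
    obtain ⟨r, hr⟩ := Submodule.mem_one.1 (hB1 (hdiv _ ((hm s).1 hs)))
    refine Ideal.mem_span_singleton'.2 ⟨r, hinj ?_⟩
    rw [map_mul, hr, ← hU, div_mul_cancel₀ _ hU0]
  have hnf : ¬ IsField A := fun h => hU0 (by
    rw [IsLocalRing.isField_iff_maximalIdeal_eq] at h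
    rw [hU, (h ▸ hum : u ∈ (⊥ : Ideal A)), map_zero])
  haveI : IsDiscreteValuationRing A :=
    ((IsDiscreteValuationRing.TFAE A hnf).out 0 4 rfl rfl).2 ⟨u, hmu⟩
  infer_instance

include hK in
/-- A local ring below two places with independent tangents is an ordinary double point. -/
theorem isOrdDoublePt_of_branches [Module.Finite A Ω[A⁄k]]
    (hres : Function.Bijective (algebraMap k (ResidueField A))) (P Q : Place k K)
    (hle : ∀ a : A, P.1 (algebraMap A K a) ≤ 1 ∧ Q.1 (algebraMap A K a) ≤ 1)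
    (hm : ∀ a ∈ maximalIdeal A, P.1 (algebraMap A K a) < 1 ∧ Q.1 (algebraMap A K a) < 1)
    (hfin : ∃ B : Submodule A K, B.FG ∧ ∀ c, c ∈ B ↔ P.1 c ≤ 1 ∧ Q.1 c ≤ 1)
    {u v : A} (hum : u ∈ maximalIdeal A) (hvm : v ∈ maximalIdeal A)
    (huP : P.1 (algebraMap A K u) = exp (-1 : ℤ)) (huQ : Q.1 (algebraMap A K u) ≤ exp (-2 : ℤ))
    (hvQ : Q.1 (algebraMap A K v) = exp (-1 : ℤ)) (hvP : P.1 (algebraMap A K v) ≤ exp (-2 : ℤ))
    (hinj : Function.Injective (algebraMap A K)) :
    Curv2.IsOrdDoublePt k A := by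
  obtain ⟨B, hBfg, hB⟩ := hfin
  set U := algebraMap A K u with hU
  set V := algebraMap A K v with hV
  have h12 : exp (-2 : ℤ) < (exp (-1 : ℤ) : WithZero (Multiplicative ℤ)) := by rw [exp_lt_exp]; norm_num
  set W := U + V with hW
  have hWP : P.1 W = exp (-1 : ℤ) := by
    rw [hW, Valuation.map_add_eq_of_lt_left _ (hvP.trans_lt (huP ▸ h12)), huP]
  have hWQ : Q.1 W = exp (-1 : ℤ) := by
    rw [hW, Valuation.map_add_eq_of_lt_right _ (huQ.trans_lt (hvQ ▸ h12)), hvQ]
  have hW0 : W ≠ 0 := fun e => by rw [e, map_zero] at hWP; exact exp_ne_zero hWP.symm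
  have hU0 : U ≠ 0 := fun e => by rw [e, map_zero] at huP; exact exp_ne_zero huP.symm
  have hV0 : V ≠ 0 := fun e => by rw [e, map_zero] at hvQ; exact exp_ne_zero hvQ.symm
  -- functions vanishing at both places
  let J : Submodule A K :=
    { carrier := {c | P.1 c < 1 ∧ Q.1 c < 1}
      add_mem' := fun ha hb => ⟨(P.1.map_add _ _).trans_lt (max_lt ha.1 hb.1),
        (Q.1.map_add _ _).trans_lt (max_lt ha.2 hb.2)⟩
      zero_mem' := by simp
      smul_mem' := fun a c hc => by
        refine ⟨?_, ?_⟩ <;> rw [Algebra.smul_def, map_mul]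
        · exact (mul_le_of_le_one_left' (hle a).1).trans_lt hc.1
        · exact (mul_le_of_le_one_left' (hle a).2).trans_lt hc.2 }
  have hJB : J ≤ B := fun c hc => (hB c).2 ⟨hc.1.le, hc.2.le⟩
  have hJfg : J.FG := by
    haveI : Module.Finite A B := Module.Finite.iff_fg.2 hBfg
    haveI : IsNoetherian A B := isNoetherian_of_isNoetherianRing_of_finite A B
    have h := (IsNoetherian.noetherian (J.comap B.subtype)).map B.subtype
    rwa [Submodule.map_comap_subtype, inf_eq_right.2 hJB] at h
  have hone : ∀ c : K, c / W ∈ J ↔ P.1 c ≤ exp (-2 : ℤ) ∧ Q.1 c ≤ exp (-2 : ℤ) := fun c => by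
    show P.1 (c / W) < 1 ∧ Q.1 (c / W) < 1 ↔ _
    rw [map_div₀, map_div₀, hWP, hWQ]
    have key : ∀ x : WithZero (Multiplicative ℤ), x / exp (-1 : ℤ) < 1 ↔ x ≤ exp (-2 : ℤ) := fun x => by
      rw [div_lt_one₀ (zero_lt_iff.mpr exp_ne_zero)]
      rcases eq_or_ne x 0 with rfl | hx
      · exact iff_of_true (zero_lt_iff.mpr exp_ne_zero) zero_le
      · obtain ⟨n, rfl⟩ : ∃ n : ℤ, exp n = x := ⟨_, exp_log hx⟩
        rw [exp_lt_exp, exp_le_exp]; omega
    rw [key, key]
  have hspan : J ≤ Submodule.span A {U, V} := by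
    refine Submodule.le_of_le_smul_of_le_jacobson_bot hJfg (jacobson_eq_maximalIdeal ⊥ bot_ne_top).ge fun c hc => ?_
    have hcU : P.1 (c / U) ≤ 1 := by
      rw [map_div₀, huP, div_le_one₀ (zero_lt_iff.mpr exp_ne_zero)]; exact (le_exp_neg_one_iff P).2 hc.1
    have hcV : Q.1 (c / V) ≤ 1 := by
      rw [map_div₀, hvQ, div_le_one₀ (zero_lt_iff.mpr exp_ne_zero)]; exact (le_exp_neg_one_iff Q).2 hc.2
    set α := pv P (c / U)
    set β := pv Q (c / V)
    refine Submodule.mem_sup.2 ⟨algebraMap k A α • U + algebraMap k A β • V,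
      Submodule.add_mem _ (Submodule.smul_mem _ _ (Submodule.subset_span (Or.inl rfl)))
        (Submodule.smul_mem _ _ (Submodule.subset_span (Or.inr rfl))),
      c - (algebraMap k A α • U + algebraMap k A β • V), ?_, add_sub_cancel _ _⟩
    rw [Algebra.smul_def (algebraMap k A α), Algebra.smul_def (algebraMap k A β),
      ← IsScalarTower.algebraMap_apply, ← IsScalarTower.algebraMap_apply]
    have hmul : ∀ (R : Place k K) (z M : K), M ≠ 0 → R.1 M = exp (-1 : ℤ) → R.1 (z / M) < 1 →
        R.1 z ≤ exp (-2 : ℤ) := fun R z M hM hRM hz => by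
      rw [show z = z / M * M by rw [div_mul_cancel₀ _ hM], map_mul, hRM,
        show (exp (-2 : ℤ) : WithZero (Multiplicative ℤ)) = exp (-1 : ℤ) * exp (-1 : ℤ) by rw [← exp_add]; rfl]
      exact mul_le_mul_left ((le_exp_neg_one_iff R).2 hz) _
    have hdP : P.1 (c - algebraMap k K α * U) ≤ exp (-2 : ℤ) := hmul P _ U hU0 huP (by
      rw [sub_div, mul_div_cancel_right₀ _ hU0]; exact pv_spec hK hcU)
    have hdQ : Q.1 (c - algebraMap k K β * V) ≤ exp (-2 : ℤ) := hmul Q _ V hV0 hvQ (by
      rw [sub_div, mul_div_cancel_right₀ _ hV0]; exact pv_spec hK hcV)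
    have hd : (c - (algebraMap k K α * U + algebraMap k K β * V)) / W ∈ J := by
      refine (hone _).2 ⟨?_, ?_⟩
      · rw [← sub_sub]
        refine (Valuation.map_sub _ _ _).trans (max_le hdP ?_)
        rw [map_mul]; exact (mul_le_of_le_one_left' (P.2.1 β)).trans hvP
      · rw [add_comm (algebraMap k K α * U), ← sub_sub]
        refine (Valuation.map_sub _ _ _).trans (max_le hdQ ?_)
        rw [map_mul]; exact (mul_le_of_le_one_left' (Q.2.1 α)).trans huQ
    have h := Submodule.smul_mem_smul ((maximalIdeal A).add_mem hum hvm) hd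
    rwa [Algebra.smul_def (u + v), map_add (algebraMap A K), ← hU, ← hV, ← hW, mul_div_cancel₀ _ hW0] at h
  have hmspan : maximalIdeal A = Ideal.span {u, v} := by
    refine le_antisymm (fun s hs => ?_) (Ideal.span_le.2 (Set.insert_subset hum (Set.singleton_subset_iff.2 hvm)))
    obtain ⟨a, b, hab⟩ := Submodule.mem_span_pair.1 (hspan (show algebraMap A K s ∈ J from hm s hs))
    refine Ideal.mem_span_pair.2 ⟨a, b, hinj ?_⟩
    rw [map_add, map_mul, map_mul, ← hab, Algebra.smul_def, Algebra.smul_def]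
  refine isOrdDoublePt_of_pair hres hmspan ?_ (fun ⟨g, hg⟩ => ?_) ((maximalIdeal A).add_mem hum hvm)
    (mem_nonZeroDivisors_of_ne_zero fun e => hW0 (by rw [hW, hU, hV, ← map_add, e, map_zero]))
  · -- the product
    have h3 : (U * V / W) / W ∈ J := by
      refine (hone _).2 ⟨?_, ?_⟩ <;> rw [map_div₀, map_mul]
      · rw [hWP, huP, mul_comm, mul_div_cancel_right₀ _ exp_ne_zero]; exact hvP
      · rw [hWQ, hvQ, mul_div_cancel_right₀ _ exp_ne_zero]; exact huQ
    obtain ⟨a, b, hab⟩ := Submodule.mem_span_pair.1 (hspan h3)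
    have e : u * v = (u + v) * ((u + v) * (a * u + b * v)) := hinj (by
      simp only [map_mul, map_add, ← hU, ← hV, ← hW]
      rw [show algebraMap A K a * U + algebraMap A K b * V = U * V / W / W by
        rw [← hab, Algebra.smul_def, Algebra.smul_def]]
      field_simp)
    rw [e, show (3 : ℕ) = 1 + (1 + 1) from rfl, pow_add, pow_add, pow_one]
    exact Ideal.mul_mem_mul ((maximalIdeal A).add_mem hum hvm)
      (Ideal.mul_mem_mul ((maximalIdeal A).add_mem hum hvm)
        ((maximalIdeal A).add_mem ((maximalIdeal A).mul_mem_left a hum) ((maximalIdeal A).mul_mem_left b hvm)))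
  · -- not principal
    have hg : maximalIdeal A = Ideal.span {g} := hg
    obtain ⟨a, ha⟩ := Ideal.mem_span_singleton'.1 (hg ▸ hum : u ∈ Ideal.span {g})
    obtain ⟨b, hb⟩ := Ideal.mem_span_singleton'.1 (hg ▸ hvm : v ∈ Ideal.span {g})
    have hgm := hm g (hg ▸ Ideal.mem_span_singleton_self g)
    have hg1 := (le_exp_neg_one_iff P).2 hgm.1
    have ha1 : IsUnit a := by
      by_contra hna
      have h := mul_le_mul' ((le_exp_neg_one_iff P).2 (hm a ((mem_maximalIdeal a).2 hna)).1) hg1
      rw [← map_mul P.1, ← map_mul (algebraMap A K), ha, huP, ← exp_add, exp_le_exp] at h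
      omega
    obtain ⟨a', ha'⟩ := isUnit_iff_exists_inv'.1 ha1
    have e : g = a' * u := by rw [← ha, ← mul_assoc, ha', one_mul]
    have h : Q.1 (algebraMap A K v) ≤ exp (-2 : ℤ) := by
      rw [← hb, e, map_mul, map_mul, map_mul, map_mul]
      exact (mul_le_of_le_one_left' (hle b).2).trans ((mul_le_of_le_one_left' (hle a').2).trans huQ)
    rw [hvQ, exp_le_exp] at h
    omega

end Groth.Agent.CurvFam16.NodalPlane
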