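import Groth.Agent.LS17.CanRing
import Groth.Agent.LS17.Exists
import Groth.Agent.LS17.MapSeries
import Groth.Agent.LS17.Embed
import Groth.Agent.CurvFam16.Nonspec.Embed

/-! The map of a base point free series. -/

noncomputable section

set_option linter.style.haveILetI false
set_option linter.unusedSectionVars false
set_option backward.isDefEq.respectTransparency false
set_option backward.isDefEq.respectTransparency.types false

universe u

open CategoryTheory CategoryTheory.Limits AlgebraicGeometry TopologicalSpace Opposite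
open Groth.Agent.CurveCohLib.Polar (InR gη eta_mem)
open Groth.Agent.AModX (res resR)

namespace Groth.Agent.CurvFam16.NodalPlane

open Groth.Agent Groth.Agent.LS17 Groth.Agent.InvX Groth.Agent.H23

attribute [local instance] CurveFF.ffAlg

variable (k : Type u) [Field k] [IsAlgClosed k] {X : Scheme.{u}} [X.Over (Spec (CommRingCat.of k))]
  [IsIntegral X] [IsProper (X ↘ Spec (CommRingCat.of k))] [Smooth (X ↘ Spec (CommRingCat.of k))]
  (hdim : topologicalKrullDim X = 1)

include hdim in
/-- A base point free series in an effective class gives a map to projective space with its ratios. -/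
theorem exists_map_of_series {n : ℕ} {E : FunFld.Divisor k X.functionField} (hE : 0 ≤ E)
    {f : Fin (n + 1) → X.functionField} (hle : ∀ i, f i ∈ FunFld.L E)
    (hexact : ∀ P : FunFld.Place k X.functionField, ∃ j, P.1 (f j) = WithZero.exp (E P)) :
    ∃ r : X ⟶ CohB1.ProjSpace n k, r ≫ CohB1.ProjSpace.toSpec n k = X ↘ Spec (CommRingCat.of k) ∧
      ∀ (i j : Fin (n + 1)) (W : X.Opens) (h : W ≤ r ⁻¹ᵁ chartD k j) (hη : genericPoint X ∈ W),
        f j ≠ 0 ∧
        (X.presheaf.germ W _ hη (ProjUPX.ratioOf r (ProjPt.X_mem i) (ProjPt.X_mem j) h) : X.functionField) =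
          f i / f j := by
  classical
  have hK := (CurveFF.isFunctionField k X hdim).1
  haveI := CurveCohLib.isNoetherian_of_proper (k := k) (X := X)
  haveI : JacobsonSpace X := LocallyOfFiniteType.jacobsonSpace (X ↘ Spec (CommRingCat.of k))
  obtain ⟨M, hM, U₀, e₀, he₀, h₀, z, hz0, hz⟩ : ∃ M : X.Modules, HasDiv k hdim M E := ⟨_, hasDiv_mod k hdim E hE⟩
  set D := CurveFF.divisor k hdim hM he₀ h₀
  have hval : ∀ (P : FunFld.Place k X.functionField) (v : X.functionField) (n : ℤ),
      P.1 v ≤ WithZero.exp n → P.1 (v * z) ≤ WithZero.exp (n - FunFld.div k z P) := fun P v n hv => by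
    rw [map_mul, FFLib.val_eq_exp P hz0, FFLib.div_apply hK, sub_eq_add_neg, WithZero.exp_add]
    exact mul_le_mul_left hv _
  have hg : ∀ i, f i * z ∈ FunFld.L D := fun i P => by
    have h := hval P (f i) _ (hle i P)
    rwa [hz, Finsupp.add_apply, add_sub_cancel_right] at h
  choose s hs using fun i => exists_section_of_mem k hdim hM he₀ h₀ (hg i)
  have htop : genericPoint X ∈ (⊤ : X.Opens) := trivial
  have hcov : ∀ x : X, ∃ i, x ∈ TrivBasic.locus (s i) := by
    by_contra! hne
    obtain ⟨x, hx⟩ := hne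
    obtain ⟨a, hay, hac⟩ := nonempty_inter_closedPoints (Z := ((⨆ i, TrivBasic.locus (s i) : X.Opens) : Set X)ᶜ)
      ⟨x, fun h => by
        obtain ⟨i, hi⟩ := Opens.mem_iSup.1 h
        exact hx i hi⟩ (⨆ i, TrivBasic.locus (s i) : X.Opens).2.isClosed_compl.isLocallyClosed
    let p : CurveFF.Pt X := ⟨a, hac⟩
    obtain ⟨j, hj⟩ := hexact (CurveFF.pl k X hdim p)
    refine hay (Opens.mem_iSup.2 ⟨j, ?_⟩)
    set U := CurveFF.chartU hM p
    have hU := eta_mem (CurveFF.mem_chartU hM p)
    have he := CurveFF.isFrame_chartE hM p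
    obtain ⟨γ, hγ, hγr⟩ := CurveFF.exists_coord_ratio he (le_refl U) hU (res M (le_top : U ≤ ⊤) (s j))
    have h1 : CurveFF.ratio he hU htop (s j) = X.presheaf.germ U _ hU γ := by
      rw [← hγr]
      exact CurveFF.ratio_eq he (by rw [CurveFF.ratio_spec, CurveFF.gM_res])
    have h2 : (CurveFF.pl k X hdim p).1 (CurveFF.ratio he hU htop (s j)) = 1 := by
      have h3 := congrArg (CurveFF.pl k X hdim p).1 (CurveFF.ratio_trans he₀ h₀ he hU htop (s j))
      rw [hs, map_mul, map_mul, hj, ← CurveFF.exp_divisor k hdim hM he₀ h₀ he hU (CurveFF.mem_chartU hM p),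
        FFLib.val_eq_exp _ hz0, ← WithZero.exp_add, hz, Finsupp.add_apply, FFLib.div_apply hK,
        add_neg_cancel_right] at h3
      exact (mul_eq_right₀ WithZero.exp_ne_zero).1 h3.symm
    rw [AModX.res_self] at hγ
    have h4 : a ∈ TrivBasic.locus (s j) ⊓ U := by
      rw [TrivBasic.locus_eq_basicOpen he hγ, X.mem_basicOpen _ a (CurveFF.mem_chartU hM p)]
      by_contra hu
      refine absurd h2 (ne_of_lt ?_)
      rw [h1, ← algebraMap_germ (CurveFF.mem_chartU hM p)]
      exact (CurveFF.valAt_lt_one_iff k X hdim p _).2 ((IsLocalRing.mem_maximalIdeal _).2 hu)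
    exact h4.1
  obtain ⟨r, hr, τ, hτ⟩ := S3572.result n (X ↘ Spec (CommRingCat.of k)) M hM s (AVAmple.generatedBy_of_locus s hcov)
  refine ⟨r, hr, fun i j W h hη => ?_⟩
  have hW : W ≤ TrivBasic.locus (s j) := h.trans (AmpleEmbed.preimage_chart r τ j (hτ j)).le
  have hfr := TrivBasic.isFrame_res_of_le_locus hW
  obtain ⟨b, hb⟩ := hfr.exists_coord le_rfl (res M (le_top : W ≤ ⊤) (s i))
  rw [AModX.res_self] at hb
  rw [AmpleEmbed.ratioOf_eq r τ j i (hτ j) (hτ i) h b hb]
  have hg0 : ∀ i, CurveFF.ratio he₀ h₀ hη (res M (le_top : W ≤ ⊤) (s i)) = f i * z := fun i =>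
    CurveFF.ratio_eq he₀ (by
      show (f i * z) • _ = _
      rw [← hs i, CurveFF.ratio_spec, CurveFF.gM_res])
  have hne : f j * z ≠ 0 := by rw [← hg0]; exact CurveFF.ratio_ne_zero he₀ h₀ hfr hη
  refine ⟨left_ne_zero_of_mul hne, ?_⟩
  rw [← mul_div_mul_right _ _ (right_ne_zero_of_mul hne), eq_div_iff hne]
  have h1 := congrArg (CurveFF.gM hη) hb
  rw [CurveFF.gM_smul] at h1
  refine (hg0 i ▸ CurveFF.ratio_eq he₀ ?_).symm
  rw [mul_smul, ← hg0 j]
  show _ • CurveFF.ratio he₀ h₀ hη _ • _ = _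
  rw [CurveFF.ratio_spec]
  exact h1.symm

end Groth.Agent.CurvFam16.NodalPlane
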