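import Groth.Agent.CurvFam16.NodalPlane.MapOfSeries
import Groth.Agent.CurvFam16.P1Map
import Groth.Agent.CurvFam16.FinBirat

/-! A curve mapped to a projective curve: local rings inside the function field. -/

noncomputable section

set_option linter.style.haveILetI false
set_option linter.unusedSectionVars false
set_option backward.isDefEq.respectTransparency false
set_option backward.isDefEq.respectTransparency.types false

universe u

open CategoryTheory CategoryTheory.Limits AlgebraicGeometry TopologicalSpace Opposite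
open Groth.Agent.CurveCohLib.Polar (InR gη eta_mem)

namespace Groth.Agent.CurvFam16.NodalPlane

open Groth.Agent Groth.Agent.LS17

/-- The scheme theoretic image of a reduced scheme is reduced. -/
theorem isReduced_image {X Z : Scheme.{u}} (f : X ⟶ Z) [IsReduced X] [QuasiCompact f] : IsReduced f.image := by
  haveI : ∀ y : f.image, _root_.IsReduced (f.image.presheaf.stalk y) := fun y => by
    obtain ⟨U, hU, hyU, -⟩ := exists_isAffineOpen_mem_and_subset (x := f.imageι y) (U := (⊤ : Z.Opens)) trivial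
    haveI : _root_.IsReduced Γ(f.image, f.imageι ⁻¹ᵁ U) :=
      isReduced_of_injective (f.toImage.app (f.imageι ⁻¹ᵁ U)).hom (f.toImage_app_injective ⟨U, hU⟩)
    have hV : IsAffineOpen (f.imageι ⁻¹ᵁ U) := hU.preimage f.imageι
    letI : Algebra Γ(f.image, f.imageι ⁻¹ᵁ U) (f.image.presheaf.stalk y) :=
      TopCat.Presheaf.algebra_section_stalk f.image.presheaf ⟨y, hyU⟩
    haveI := hV.isLocalization_stalk ⟨y, hyU⟩
    exact isReduced_localizationPreserves (hV.primeIdealOf ⟨y, hyU⟩).asIdeal.primeCompl _ inferInstance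
  exact isReduced_of_isReduced_stalk _

section Stalk

variable {X Y : Scheme.{u}} [IsIntegral X] [IsIntegral Y] (φ : X ⟶ Y)
  (e : φ (genericPoint X) = genericPoint Y)

/-- A local ring of the target inside the function field of the source. -/
def Ψ (y : Y) : Y.presheaf.stalk y →+* X.functionField :=
  (P1Map.ffMap φ e).hom.comp (algebraMap (Y.presheaf.stalk y) Y.functionField)

theorem Ψ_injective (y : Y) : Function.Injective (Ψ φ e y) :=
  (P1Map.ffMap φ e).hom.injective.comp (IsFractionRing.injective (Y.presheaf.stalk y) Y.functionField)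

theorem Ψ_apply (a : X) (s : Y.presheaf.stalk (φ a)) :
    Ψ φ e (φ a) s = algebraMap (X.presheaf.stalk a) X.functionField (φ.stalkMap a s) := by
  have h1 := congrArg (fun g => (g s : X.presheaf.stalk (genericPoint X)))
    (Scheme.Hom.stalkSpecializes_stalkMap φ (genericPoint X) a
      ((genericPoint_spec X).specializes (Set.mem_univ a)))
  refine Eq.trans ?_ h1
  show φ.stalkMap (genericPoint X) (Y.presheaf.stalkSpecializes (specializes_of_eq e)
    (Y.presheaf.stalkSpecializes ((genericPoint_spec Y).specializes (Set.mem_univ _)) s)) = _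
  rw [← CommRingCat.comp_apply (Y.presheaf.stalkSpecializes _) (Y.presheaf.stalkSpecializes _),
    TopCat.Presheaf.stalkSpecializes_comp]
  rfl

theorem Ψ_germ {V : Y.Opens} {y : Y} (hy : y ∈ V) (t : Γ(Y, V)) :
    Ψ φ e y (Y.presheaf.germ V y hy t) = X.presheaf.germ (φ ⁻¹ᵁ V) (genericPoint X)
      (show φ (genericPoint X) ∈ V by rw [e]; exact eta_mem hy) (φ.app V t) := by
  show (P1Map.ffMap φ e) (algebraMap (Y.presheaf.stalk y) Y.functionField (Y.presheaf.germ V y hy t)) = _
  rw [LS17.algebraMap_germ hy]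
  show φ.stalkMap (genericPoint X) (Y.presheaf.stalkSpecializes (specializes_of_eq e) (Y.presheaf.germ V _ _ t)) = _
  rw [TopCat.Presheaf.germ_stalkSpecializes_apply, Scheme.Hom.germ_stalkMap_apply]

end Stalk

attribute [local instance] CurveFF.ffAlg

variable (k : Type u) [Field k] [IsAlgClosed k] {X : Scheme.{u}} [X.Over (Spec (CommRingCat.of k))]
  [IsIntegral X] [IsProper (X ↘ Spec (CommRingCat.of k))] [Smooth (X ↘ Spec (CommRingCat.of k))]
  (hdim : topologicalKrullDim X = 1) {Y : Scheme.{u}} [Y.Over (Spec (CommRingCat.of k))] [IsIntegral Y]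
  (φ : X ⟶ Y) (hφ : φ ≫ (Y ↘ Spec (CommRingCat.of k)) = X ↘ Spec (CommRingCat.of k))
  (e : φ (genericPoint X) = genericPoint Y)

include hφ in
/-- Constants go to constants. -/
theorem Ψ_const (y : Y) (c : k) : Ψ φ e y (Curv2.stalkMap k Y y c) = algebraMap k X.functionField c := by
  refine (Ψ_germ φ e (V := ⊤) trivial _).trans ?_
  show X.presheaf.germ _ _ _ (φ.appTop ((Y ↘ Spec (CommRingCat.of k)).appTop _)) = _
  have h := congrArg (fun f => f.appTop ((Scheme.ΓSpecIso (CommRingCat.of k)).inv c)) hφ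
  simp only [Scheme.Hom.comp_appTop] at h
  exact congrArg (X.presheaf.germ ⊤ (genericPoint X) trivial) h

include hdim in
/-- Values of the local ring at the places above. -/
theorem Ψ_val (z : CurveFF.Pt X) {y : Y} (hy : φ z.1 = y) (s : Y.presheaf.stalk y) :
    (CurveFF.pl k X hdim z).1 (Ψ φ e y s) ≤ 1 ∧
      ((CurveFF.pl k X hdim z).1 (Ψ φ e y s) < 1 ↔ s ∈ IsLocalRing.maximalIdeal (Y.presheaf.stalk y)) := by
  subst hy
  rw [Ψ_apply]
  refine ⟨(CurveFF.valAt_le_one_iff k X hdim z _).2 ⟨_, rfl⟩, ?_⟩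
  refine (CurveFF.valAt_lt_one_iff k X hdim z _).trans ?_
  rw [IsLocalRing.mem_maximalIdeal, IsLocalRing.mem_maximalIdeal, mem_nonunits_iff, mem_nonunits_iff,
    isUnit_map_iff]

include hφ e in
/-- The map is birational when the function field is generated by functions on the image. -/
theorem ffMap_surjective {s : Set X.functionField} (hs : IntermediateField.adjoin k s = ⊤)
    (hmem : ∀ c ∈ s, ∃ (y : Y) (t : Y.presheaf.stalk y), Ψ φ e y t = c) :
    Function.Surjective (P1Map.ffMap φ e).hom := by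
  let F : IntermediateField k X.functionField :=
    { (P1Map.ffMap φ e).hom.fieldRange with
      algebraMap_mem' := fun c => ⟨_, Ψ_const k φ hφ e (genericPoint Y) c⟩ }
  have h : IntermediateField.adjoin k s ≤ F := IntermediateField.adjoin_le_iff.2 fun c hc => by
    obtain ⟨y, t, ht⟩ := hmem c hc
    exact ⟨_, ht⟩
  intro c
  exact h (hs ▸ IntermediateField.mem_top : c ∈ IntermediateField.adjoin k s)

variable [IsFinite φ]

include hdim in
/-- The functions finite above a point form a finite module over the local ring. -/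
theorem exists_finite_over (y : Y) :
    letI := (Ψ φ e y).toAlgebra
    ∃ B : Submodule (Y.presheaf.stalk y) X.functionField, B.FG ∧
      ∀ c, c ∈ B ↔ ∀ z : CurveFF.Pt X, φ z.1 = y → (CurveFF.pl k X hdim z).1 c ≤ 1 := by
  classical
  letI := (Ψ φ e y).toAlgebra
  have hK := (CurveFF.isFunctionField k X hdim).1
  obtain ⟨V, hV, hyV, -⟩ := exists_isAffineOpen_mem_and_subset (x := y) (U := (⊤ : Y.Opens)) trivial
  have hW : IsAffineOpen (φ ⁻¹ᵁ V) := hV.preimage φ
  have hηW : genericPoint X ∈ φ ⁻¹ᵁ V := show φ (genericPoint X) ∈ V by rw [e]; exact eta_mem hyV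
  let g : Γ(X, φ ⁻¹ᵁ V) →+* X.functionField := (X.presheaf.germ (φ ⁻¹ᵁ V) (genericPoint X) hηW).hom
  have hfin := IsFinite.finite_app φ V hV
  algebraize [(φ.app V).hom]
  obtain ⟨G, hG⟩ := (inferInstance : Module.Finite Γ(Y, V) Γ(X, φ ⁻¹ᵁ V)).fg_top
  let B : Submodule (Y.presheaf.stalk y) X.functionField := Submodule.span _ ((g : Γ(X, φ ⁻¹ᵁ V) → X.functionField) '' G)
  refine ⟨B, ⟨G.image g, by rw [Finset.coe_image]⟩, fun c => ⟨fun hc z hz => ?_, fun hc => ?_⟩⟩
  · induction hc using Submodule.span_induction with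
    | mem c hc =>
      obtain ⟨t, -, rfl⟩ := hc
      have hzW : z.1 ∈ φ ⁻¹ᵁ V := show φ z.1 ∈ V by rw [hz]; exact hyV
      exact (CurveFF.inR_iff k X hdim z _).1 ⟨_, LS17.algebraMap_germ hzW t⟩
    | zero => rw [map_zero]; exact zero_le
    | add a b _ _ ha hb => exact (Valuation.map_add _ _ _).trans (max_le ha hb)
    | smul a b _ hb =>
      rw [Algebra.smul_def, map_mul]
      exact (mul_le_of_le_one_left' (Ψ_val k hdim φ e z hz a).1).trans hb
  rcases eq_or_ne c 0 with rfl | hc0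
  · exact B.zero_mem
  -- a denominator away from `y`
  have hS : {z : CurveFF.Pt X | z.1 ∈ φ ⁻¹ᵁ V ∧ ¬ (CurveFF.pl k X hdim z).1 c ≤ 1}.Finite :=
    ((finite_not_le_one (CurveFF.isFunctionField k X hdim) c).preimage (CurveFF.pl k X hdim).injective.injOn).subset
      fun z hz => hz.2
  let q : V := ⟨y, hyV⟩
  have hden : ∀ (z : CurveFF.Pt X) (hzV : z.1 ∈ φ ⁻¹ᵁ V), φ z.1 ≠ y → ∃ t : Γ(Y, V),
      t ∉ (hV.primeIdealOf q).asIdeal ∧ t ∈ (hV.primeIdealOf ⟨φ z.1, hzV⟩).asIdeal := fun z hzV hne => by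
    by_contra! hle
    have hle' : (hV.primeIdealOf ⟨φ z.1, hzV⟩).asIdeal ≤ (hV.primeIdealOf q).asIdeal := fun t ht => by
      by_contra h; exact hle t h ht
    have hsp : hV.primeIdealOf ⟨φ z.1, hzV⟩ ⤳ hV.primeIdealOf q :=
      (PrimeSpectrum.le_iff_specializes _ _).1 hle'
    have h2 : φ z.1 ⤳ y := by
      have := hsp.map hV.fromSpec.continuous
      rwa [hV.fromSpec_primeIdealOf, hV.fromSpec_primeIdealOf] at this
    refine hne ?_
    have hc : IsClosed ({φ z.1} : Set Y) := by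
      have := φ.isClosedMap _ z.2
      rwa [Set.image_singleton] at this
    exact (h2.mem_closed hc (Set.mem_singleton _)).symm
  have hS' : ∀ z ∈ hS.toFinset, z.1 ∈ φ ⁻¹ᵁ V ∧ φ z.1 ≠ y := fun z hz => by
    obtain ⟨h1, h2⟩ := hS.mem_toFinset.1 hz
    exact ⟨h1, fun h => h2 (hc z h)⟩
  choose t ht ht' using fun z : hS.toFinset => hden z.1 (hS' z.1 z.2).1 (hS' z.1 z.2).2
  let N : hS.toFinset → ℕ := fun z => ((CurveFF.pl k X hdim z.1).ord c).natAbs
  set T : Γ(Y, V) := ∏ z, t z ^ N z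
  have hTy : T ∉ (hV.primeIdealOf q).asIdeal := fun h => by
    obtain ⟨z, -, hz⟩ := (Ideal.IsPrime.prod_mem_iff (p := (hV.primeIdealOf q).asIdeal)).1 h
    exact ht z ((hV.primeIdealOf q).isPrime.mem_of_pow_mem _ hz)
  have hval : ∀ z : CurveFF.Pt X, z.1 ∈ φ ⁻¹ᵁ V → (CurveFF.pl k X hdim z).1 (g (φ.app V T) * c) ≤ 1 := fun z hzV => by
    set P := CurveFF.pl k X hdim z
    have hR : ∀ t' : Γ(Y, V), P.1 (g (φ.app V t')) ≤ 1 ∧
        (t' ∈ (hV.primeIdealOf ⟨φ z.1, hzV⟩).asIdeal → P.1 (g (φ.app V t')) < 1) := fun t' => by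
      have h0 := Ψ_germ φ e (show φ z.1 ∈ V from hzV) t'
      rw [show g (φ.app V t') = Ψ φ e (φ z.1) (Y.presheaf.germ V (φ z.1) hzV t') from h0.symm]
      refine ⟨(Ψ_val k hdim φ e z rfl _).1, fun h => (Ψ_val k hdim φ e z rfl _).2.2 ?_⟩
      letI : Algebra Γ(Y, V) (Y.presheaf.stalk (φ z.1)) :=
        TopCat.Presheaf.algebra_section_stalk Y.presheaf ⟨φ z.1, hzV⟩
      haveI := hV.isLocalization_stalk ⟨φ z.1, hzV⟩
      exact (IsLocalization.AtPrime.to_map_mem_maximal_iff (Y.presheaf.stalk (φ z.1))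
        (hV.primeIdealOf ⟨φ z.1, hzV⟩).asIdeal t').2 h
    rw [map_mul]
    by_cases hcz : P.1 c ≤ 1
    · exact (mul_le_of_le_one_left' (hR T).1).trans hcz
    let w : hS.toFinset := ⟨z, hS.mem_toFinset.2 ⟨hzV, hcz⟩⟩
    have h1 : P.1 (g (φ.app V T)) ≤ P.1 (g (φ.app V (t w))) ^ N w := by
      simp only [T]
      rw [← Finset.mul_prod_erase Finset.univ (fun z => t z ^ N z) (Finset.mem_univ w), map_mul, map_mul, map_mul,
        map_pow, map_pow, map_pow]
      exact mul_le_of_le_one_right' (hR _).1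
    have h2 := (FFLib.le_exp_neg_one_iff P).2 ((hR (t w)).2 (ht' w))
    refine (mul_le_mul' (h1.trans (pow_le_pow_left' h2 _)) le_rfl).trans ?_
    rw [← WithZero.exp_nsmul, FFLib.val_eq_exp P hc0, ← WithZero.exp_add, ← WithZero.exp_zero,
      WithZero.exp_le_exp, nsmul_eq_mul]
    show ((P.ord c).natAbs : ℤ) * (-1) + -P.ord c ≤ 0
    omega
  have hinR : ∀ x ∈ φ ⁻¹ᵁ V, InR x (g (φ.app V T) * c) := fun x hx => by
    rcases CurveFF.eq_or_isClosed k X hdim x with rfl | hxc
    · exact ⟨_, CurveFF.algebraMap_generic X _⟩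
    · exact (CurveFF.inR_iff k X hdim ⟨x, hxc⟩ _).2 (hval ⟨x, hxc⟩ hx)
  obtain ⟨r, hr⟩ := CurveCohLib.Polar.exists_of_forall_inR hinR
  have hr' : g r = g (φ.app V T) * c := hr hηW
  -- write `c` over the local ring
  letI : Algebra Γ(Y, V) (Y.presheaf.stalk y) := TopCat.Presheaf.algebra_section_stalk Y.presheaf q
  haveI := hV.isLocalization_stalk q
  have hu : IsUnit (algebraMap Γ(Y, V) (Y.presheaf.stalk y) T) :=
    IsLocalization.map_units (Y.presheaf.stalk y) (⟨T, hTy⟩ : (hV.primeIdealOf q).asIdeal.primeCompl)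
  have hgT : Ψ φ e y (algebraMap Γ(Y, V) (Y.presheaf.stalk y) T) = g (φ.app V T) := Ψ_germ φ e hyV T
  have hrB : g r ∈ B := by
    have hr1 : r ∈ Submodule.span Γ(Y, V) (G : Set Γ(X, φ ⁻¹ᵁ V)) := hG ▸ Submodule.mem_top
    clear hr hr'
    induction hr1 using Submodule.span_induction with
    | mem t ht => exact Submodule.subset_span ⟨t, ht, rfl⟩
    | zero => rw [map_zero]; exact B.zero_mem
    | add a b _ _ ha hb => rw [map_add]; exact B.add_mem ha hb
    | smul a b _ hb =>
      rw [Algebra.smul_def, map_mul, show g (algebraMap Γ(Y, V) Γ(X, φ ⁻¹ᵁ V) a) =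
        Ψ φ e y (algebraMap Γ(Y, V) (Y.presheaf.stalk y) a) from (Ψ_germ φ e hyV a).symm]
      exact B.smul_mem (algebraMap Γ(Y, V) (Y.presheaf.stalk y) a) hb
  have hcr : c = (↑hu.unit⁻¹ : Y.presheaf.stalk y) • g r := by
    rw [hr', ← hgT, Algebra.smul_def, ← mul_assoc]
    show c = Ψ φ e y _ * Ψ φ e y _ * c
    rw [← map_mul, IsUnit.val_inv_mul, map_one, one_mul]
  exact hcr ▸ B.smul_mem _ hrB

end Groth.Agent.CurvFam16.NodalPlane
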