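import Groth.Agent.CurvFam16.NodalPlane.Choice
import Groth.Agent.CurvFam16.NodalPlane.Local
import Groth.Agent.CurvFam16.NodalPlane.Birat
import Groth.Agent.CurvFam16.Castel.Sep
import Groth.Agent.NodalLib.Main
import Groth.Agent.CurveCohLib.RegularCurve

/-! The nodal plane model. -/

noncomputable section

set_option linter.style.haveILetI false
set_option linter.unusedSectionVars false
set_option backward.isDefEq.respectTransparency false
set_option backward.isDefEq.respectTransparency.types false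

universe u

open CategoryTheory CategoryTheory.Limits AlgebraicGeometry TopologicalSpace Opposite
open FunFld WithZero
open Groth.Agent.CurveCohLib.Polar (InR gη eta_mem)

namespace Groth.Agent.CurvFam16.NodalPlane

open Groth.Agent Groth.Agent.LS17 Groth.Agent.FFLib

attribute [local instance] CurveFF.ffAlg

variable {k : Type u} [Field k] [IsAlgClosed k] {X : Scheme.{u}} [X.Over (Spec (CommRingCat.of k))]
  [IsIntegral X] [IsProper (X ↘ Spec (CommRingCat.of k))] [Smooth (X ↘ Spec (CommRingCat.of k))]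
  (hdim : topologicalKrullDim X = 1)

theorem rat_congr {n : ℕ} {r r' : X ⟶ CohB1.ProjSpace n k} (h0 : r = r') {f : Fin (n + 1) → X.functionField}
    (h : ∀ (i l : Fin (n + 1)) (W : X.Opens) (hW : W ≤ r ⁻¹ᵁ chartD k l) (hη : genericPoint X ∈ W),
      f l ≠ 0 ∧ (X.presheaf.germ W _ hη (ProjUPX.ratioOf r (ProjPt.X_mem i) (ProjPt.X_mem l) hW) : X.functionField) =
        f i / f l) :
    ∀ (i l : Fin (n + 1)) (W : X.Opens) (hW : W ≤ r' ⁻¹ᵁ chartD k l) (hη : genericPoint X ∈ W),
      f l ≠ 0 ∧ (X.presheaf.germ W _ hη (ProjUPX.ratioOf r' (ProjPt.X_mem i) (ProjPt.X_mem l) hW) : X.functionField) =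
        f i / f l := by
  subst h0; exact h

include hdim in
/-- A curve is birational to a plane curve with nodes only. -/
theorem exists_plane_model :
    ∃ (Y : Scheme.{u}) (j : Y ⟶ CohB1.ProjSpace 2 k) (φ : X ⟶ Y), IsClosedImmersion j ∧ IsIntegral Y ∧
      φ ≫ j ≫ CohB1.ProjSpace.toSpec 2 k = (X ↘ (Spec (CommRingCat.of k))) ∧
      (letI : Y.Over (Spec (CommRingCat.of k)) := ⟨j ≫ CohB1.ProjSpace.toSpec 2 k⟩
       Curv2.AtWorstNodal k Y) ∧
      ∃ U : Y.Opens, (U : Set Y).Nonempty ∧ IsIso (φ ∣_ U) := by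
  classical
  have hK := CurveFF.isFunctionField k X hdim
  obtain ⟨x, y, hN⟩ := exists_nodalPair hK
  have hx0 : x ≠ 0 := fun h => hN.tr (h ▸ isAlgebraic_zero)
  set E : FunFld.Divisor k X.functionField := poles x with hEdef
  let f : Fin 3 → X.functionField := ![1, x, y]
  have hEpole : ∀ P : Place k X.functionField, ¬ P.1 x ≤ 1 → E P = 1 := fun P hP => by
    rw [hEdef, poles, Finsupp.mapRange_apply, div_apply hK.1,
      ord_of_val_eq (n := (-1 : ℤ)) P (by rw [(hN.pole P hP).1]; rfl)]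
    rfl
  have hEfin : ∀ P : Place k X.functionField, P.1 x ≤ 1 → E P = 0 := fun P hP => by
    have h := (val_le_one_iff P hx0).1 hP
    rw [hEdef, poles, Finsupp.mapRange_apply, div_apply hK.1]
    omega
  have hE : 0 ≤ E := poles_nonneg x
  have hle : ∀ i, f i ∈ FunFld.L E := fun i P => by
    by_cases hP : P.1 x ≤ 1
    · rw [hEfin P hP, exp_zero]
      fin_cases i
      exacts [(map_one P.1).le, hP, hN.affine P hP]
    · obtain ⟨h1, h2⟩ := hN.pole P hP
      rw [hEpole P hP]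
      fin_cases i
      · show P.1 1 ≤ _
        rw [map_one, ← exp_zero, exp_le_exp]; norm_num
      · exact h1.le
      · show P.1 y ≤ _
        rw [show y = y / x * x by rw [div_mul_cancel₀ _ hx0], map_mul, h1]
        exact mul_le_of_le_one_left' h2
  have hex0 : ∀ P : Place k X.functionField, P.1 x ≤ 1 → P.1 (f 0) = exp (E P) := fun P hP => by
    rw [hEfin P hP, exp_zero]; exact map_one _
  have hex1 : ∀ P : Place k X.functionField, ¬ P.1 x ≤ 1 → P.1 (f 1) = exp (E P) := fun P hP => by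
    rw [hEpole P hP]; exact (hN.pole P hP).1
  have hexact : ∀ P : Place k X.functionField, ∃ i, P.1 (f i) = exp (E P) := fun P => by
    by_cases hP : P.1 x ≤ 1
    exacts [⟨0, hex0 P hP⟩, ⟨1, hex1 P hP⟩]
  have hord : ∀ (P : Place k X.functionField) (i : Fin 3), P.1 (f i) = exp (E P) → f i ≠ 0 ∧ P.ord (f i) = -E P :=
    fun P i h => by
    have h0 : f i ≠ 0 := fun e => by rw [e, map_zero] at h; exact exp_ne_zero h.symm
    rw [val_eq_exp P h0, exp_inj] at h
    exact ⟨h0, by omega⟩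
  have hb : IsBpfSeries E (Submodule.span k (Set.range f)) :=
    ⟨Submodule.span_le.2 (by rintro _ ⟨i, rfl⟩; exact hle i), fun P => by
      obtain ⟨i, hi⟩ := hexact P
      exact ⟨f i, Submodule.subset_span ⟨i, rfl⟩, hord P i hi⟩⟩
  obtain ⟨r, hr, hrat₀⟩ := exists_map_of_series k hdim hE hle hexact
  -- the image
  haveI : IsProper (CohB1.ProjSpace.toSpec 2 k) := PnCoh.Chow.isProper_toSpec 2 k
  haveI : IsProper (r ≫ CohB1.ProjSpace.toSpec 2 k) := by rw [hr]; infer_instance
  haveI : IsProper r := IsProper.of_comp r (CohB1.ProjSpace.toSpec 2 k)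
  let Y := r.image
  let j : Y ⟶ CohB1.ProjSpace 2 k := r.imageι
  let φ : X ⟶ Y := r.toImage
  have hrj : φ ≫ j = r := r.toImage_imageι
  letI : Y.Over (Spec (CommRingCat.of k)) := ⟨j ≫ CohB1.ProjSpace.toSpec 2 k⟩
  have hφ : φ ≫ (Y ↘ Spec (CommRingCat.of k)) = X ↘ Spec (CommRingCat.of k) := by
    show φ ≫ j ≫ CohB1.ProjSpace.toSpec 2 k = _
    rw [← Category.assoc, hrj, hr]
  haveI : IsClosedImmersion j := inferInstanceAs (IsClosedImmersion r.ker.subschemeι)
  haveI : LocallyOfFiniteType (Y ↘ Spec (CommRingCat.of k)) :=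
    inferInstanceAs (LocallyOfFiniteType (j ≫ CohB1.ProjSpace.toSpec 2 k))
  haveI : IsProper (φ ≫ j) := by rw [hrj]; infer_instance
  haveI : IsProper φ := IsProper.of_comp φ j
  haveI : IsDominant φ := inferInstanceAs (IsDominant r.toImage)
  haveI : Surjective φ := ⟨fun z => by
    have h1 : IsClosed (Set.range φ) := φ.isClosedMap.isClosed_range
    have h2 := φ.denseRange.closure_range
    rw [h1.closure_eq] at h2
    exact h2.ge (Set.mem_univ z)⟩
  haveI : IrreducibleSpace Y := by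
    haveI : Nonempty Y := ⟨φ (genericPoint X)⟩
    refine (irreducibleSpace_def Y).2 ?_
    have h := (IrreducibleSpace.isIrreducible_univ X).image φ φ.continuous.continuousOn
    rwa [Set.image_univ, φ.surjective.range_eq] at h
  haveI : AlgebraicGeometry.IsReduced Y := isReduced_image r
  haveI : IsIntegral Y := isIntegral_of_irreducibleSpace_of_isReduced _
  have e : φ (genericPoint X) = genericPoint Y := by
    have h := (genericPoint_spec X).image φ.continuous
    rw [Set.image_univ, φ.surjective.range_eq, closure_univ] at h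
    exact h.eq (genericPoint_spec Y)
  have hrat := rat_congr (k := k) (X := X) hrj.symm hrat₀
  -- coordinates in the local rings
  have hcoord : ∀ (a : Y) (l : Fin 3), a ∈ j ⁻¹ᵁ chartD k l → ∀ i,
      ∃ s : Y.presheaf.stalk a, Ψ φ e a s = f i / f l := fun a l hal i => by
    refine ⟨Y.presheaf.germ (j ⁻¹ᵁ chartD k l) a hal (j.app (chartD k l)
      ((Proj.awayToSection (CohB1.polyGrading 2 k) (MvPolynomial.X l)).hom
        (HomogeneousLocalization.Away.mk (CohB1.polyGrading 2 k) (ProjPt.X_mem l) 1 (MvPolynomial.X i)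
          (by rw [one_smul]; exact ProjPt.X_mem i)))), ?_⟩
    have hη : genericPoint X ∈ φ ⁻¹ᵁ (j ⁻¹ᵁ chartD k l) := show φ (genericPoint X) ∈ j ⁻¹ᵁ chartD k l by
      rw [e]; exact eta_mem hal
    rw [Ψ_germ φ e hal, ← (hrat i l ((φ ≫ j) ⁻¹ᵁ chartD k l) le_rfl hη).2, ProjUPX.ratioOf,
      Scheme.Hom.appLE_eq_app, Scheme.Hom.comp_app]
    rfl
  have hchart : ∀ (z : CurveFF.Pt X) (l : Fin 3),
      (CurveFF.pl k X hdim z).1 (f l) = exp (E (CurveFF.pl k X hdim z)) → φ z.1 ∈ j ⁻¹ᵁ chartD k l := fun z l hl => by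
    have h := Castel.mem_chart_of_ord k r hdim hb (fun i l W h hη => (hrat₀ i l W h hη).2) z
      (hord _ l hl).1 (hord _ l hl).2
    rw [← hrj] at h
    exact h
  have hfin : ∀ (z : CurveFF.Pt X), (CurveFF.pl k X hdim z).1 x ≤ 1 → ∀ {a : Y}, φ z.1 = a →
      ∃ sx sy : Y.presheaf.stalk a, Ψ φ e a sx = x ∧ Ψ φ e a sy = y := fun z hz a ha => by
    subst ha
    have h := hchart z 0 (hex0 _ hz)
    obtain ⟨sx, hsx⟩ := hcoord _ 0 h 1
    obtain ⟨sy, hsy⟩ := hcoord _ 0 h 2
    exact ⟨sx, sy, hsx.trans (div_one x), hsy.trans (div_one y)⟩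
  have hinf : ∀ (z : CurveFF.Pt X), ¬ (CurveFF.pl k X hdim z).1 x ≤ 1 → ∀ {a : Y}, φ z.1 = a →
      ∃ sx sy : Y.presheaf.stalk a, Ψ φ e a sx = x⁻¹ ∧ Ψ φ e a sy = y / x := fun z hz a ha => by
    subst ha
    have h := hchart z 1 (hex1 _ hz)
    obtain ⟨sx, hsx⟩ := hcoord _ 1 h 0
    obtain ⟨sy, hsy⟩ := hcoord _ 1 h 2
    exact ⟨sx, sy, hsx.trans (one_div x), hsy⟩
  have hinv : ∀ P : Place k X.functionField, ¬ P.1 x ≤ 1 → P.1 x⁻¹ = exp (-1 : ℤ) := fun P hP => by
    rw [map_inv₀, (hN.pole P hP).1, ← exp_neg]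
  have hlt1 : ∀ n : ℤ, n < 0 → (exp n : WithZero (Multiplicative ℤ)) < 1 := fun n hn => by
    rw [← exp_zero, exp_lt_exp]; exact hn
  -- finiteness
  obtain ⟨P₁, hP₁⟩ := exists_place_zero hK.1 (x := x⁻¹) (fun h => hN.tr (by simpa using h.inv))
  obtain ⟨z₁, rfl⟩ := (CurveFF.pl k X hdim).surjective P₁
  have hz₁ : ¬ (CurveFF.pl k X hdim z₁).1 x ≤ 1 := fun h => by
    rw [map_inv₀, inv_lt_one₀ (zero_lt_iff.2 ((Valuation.ne_zero_iff _).2 hx0))] at hP₁
    exact not_lt.2 h hP₁
  haveI : IsFinite φ := by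
    haveI : JacobsonSpace X := LocallyOfFiniteType.jacobsonSpace (X ↘ Spec (CommRingCat.of k))
    haveI : LocallyQuasiFinite φ := AVAmple.locallyQuasiFinite_of_closed φ fun a ha => by
      have hη : genericPoint X ∉ φ ⁻¹' {a} := fun h => by
        have ha' : a = genericPoint Y := (e.symm.trans h).symm
        have hz : φ z₁.1 = genericPoint Y := by
          have h2 := (genericPoint_specializes (φ z₁.1)).mem_closed (ha'.symm ▸ ha : IsClosed {genericPoint Y})
            (Set.mem_singleton _)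
          exact h2
        obtain ⟨sx, -, hsx, -⟩ := hinf z₁ hz₁ hz
        have hm := ((Ψ_val k hdim φ e z₁ hz sx).2).1 (by rw [hsx]; exact hP₁)
        have hfield : IsField (Y.presheaf.stalk (genericPoint Y)) := Field.toIsField Y.functionField
        rw [IsLocalRing.isField_iff_maximalIdeal_eq.1 hfield, Ideal.mem_bot] at hm
        rw [hm, map_zero] at hsx
        exact inv_ne_zero hx0 hsx.symm
      refine ((CurveFF.finite_not_mem k X hdim (U := ⟨(φ ⁻¹' {a})ᶜ, (ha.preimage φ.continuous).isOpen_compl⟩) hη).image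
        (fun z => z.1)).subset fun z hz => ?_
      rcases CurveFF.eq_or_isClosed k X hdim z with rfl | hzc
      · exact absurd hz hη
      · exact ⟨⟨z, hzc⟩, fun h => h hz, rfl⟩
    exact IsFinite.of_isProper_of_locallyQuasiFinite φ
  -- birationality
  obtain ⟨P₀, hP₀⟩ := exists_place_zero hK.1 (x := x) hN.tr
  obtain ⟨z₀, rfl⟩ := (CurveFF.pl k X hdim).surjective P₀
  have hsurj : Function.Surjective (P1Map.ffMap φ e).hom := by
    refine ffMap_surjective k φ hφ e hN.gen fun c hc => ?_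
    obtain ⟨sx, sy, h1, h2⟩ := hfin z₀ hP₀.le rfl
    rcases hc with rfl | rfl
    exacts [⟨_, sx, h1⟩, ⟨_, sy, h2⟩]
  haveI : IsLocallyNoetherian Y := LocallyOfFiniteType.isLocallyNoetherian (Y ↘ Spec (CommRingCat.of k))
  refine ⟨Y, j, φ, inferInstance, inferInstance, hφ, fun a ha => ?_,
    exists_open_isIso (Y ↘ Spec (CommRingCat.of k)) φ e hsurj⟩
  -- the singularities
  haveI : JacobsonSpace X := LocallyOfFiniteType.jacobsonSpace (X ↘ Spec (CommRingCat.of k))
  obtain ⟨z, hz, hzc⟩ := nonempty_inter_closedPoints (Z := φ ⁻¹' {a})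
    ((φ.surjective a).imp fun _ h => h) (ha.preimage φ.continuous).isLocallyClosed
  let p : CurveFF.Pt X := ⟨z, hzc⟩
  have hp : φ p.1 = a := hz
  set P := CurveFF.pl k X hdim p with hPdef
  letI := Curv2.stalkAlgebra k Y a
  letI := (Ψ φ e a).toAlgebra
  haveI : IsScalarTower k (Y.presheaf.stalk a) X.functionField :=
    IsScalarTower.of_algebraMap_eq fun c => (Ψ_const k φ hφ e a c).symm
  have hconst : ∀ c : k, Ψ φ e a (algebraMap k (Y.presheaf.stalk a) c) = algebraMap k X.functionField c :=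
    Ψ_const k φ hφ e a
  have hinj : Function.Injective (algebraMap (Y.presheaf.stalk a) X.functionField) := Ψ_injective φ e a
  have hsame : ∀ w : CurveFF.Pt X, φ w.1 = a → ∀ s : Y.presheaf.stalk a,
      pv (CurveFF.pl k X hdim w) (Ψ φ e a s) = pv P (Ψ φ e a s) := fun w hw s => by
    have h1 : P.1 (Ψ φ e a s) ≤ 1 := (Ψ_val k hdim φ e p hp s).1
    have h2 : P.1 (Ψ φ e a (s - algebraMap k (Y.presheaf.stalk a) (pv P (Ψ φ e a s)))) < 1 := by
      rw [map_sub, hconst]; exact pv_spec hK h1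
    have h3 := (Ψ_val k hdim φ e w hw _).2.2 ((Ψ_val k hdim φ e p hp _).2.1 h2)
    rw [map_sub, hconst] at h3
    exact pv_eq h3
  obtain ⟨B, hBfg, hB⟩ := exists_finite_over k hdim φ e a
  have hsmooth : (∀ w : CurveFF.Pt X, φ w.1 = a → w = p) →
      (∃ u : Y.presheaf.stalk a, P.1 (Ψ φ e a u) = exp (-1 : ℤ)) →
      ∃ U : Y.Opens, a ∈ U ∧ Smooth (U.ι ≫ (Y ↘ Spec (CommRingCat.of k))) := fun honly ⟨u, hu⟩ => by
    have hB' : ∀ c, c ∈ B ↔ P.1 c ≤ 1 := fun c =>
      ⟨fun h => (hB c).1 h p hp, fun h => (hB c).2 fun w hw => by rw [honly w hw]; exact h⟩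
    haveI := isRegularLocalRing_of_unif hK P (fun s => (Ψ_val k hdim φ e p hp s).2.symm) ⟨B, hBfg, hB'⟩ hu hinj
    refine (CurvOpenLib.Inst.loc_smooth_iff _ a).2 ?_
    letI := Curv2.resAlgebra k Y a
    haveI : Algebra.IsSeparable k (Y.residueField a) := ⟨fun c => by
      obtain ⟨c, rfl⟩ := CurveSection.surjective_resMap k ha c
      exact isSeparable_algebraMap c⟩
    exact SmoothReg.mem_smoothLocus_of_isSeparable _ a (fun c => rfl) inferInstance
  by_cases hfinP : P.1 x ≤ 1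
  · obtain ⟨sx, sy, hsx, hsy⟩ := hfin p hfinP hp
    have hxy : ∀ w : CurveFF.Pt X, φ w.1 = a → (CurveFF.pl k X hdim w).1 x ≤ 1 ∧
        pv (CurveFF.pl k X hdim w) x = pv P x ∧ pv (CurveFF.pl k X hdim w) y = pv P y := fun w hw => by
      refine ⟨hsx ▸ (Ψ_val k hdim φ e w hw sx).1, ?_, ?_⟩
      · rw [← hsx]; exact hsame w hw sx
      · rw [← hsy]; exact hsame w hw sy
    by_cases honly : ∀ w : CurveFF.Pt X, φ w.1 = a → w = p
    · refine Or.inl (hsmooth honly ?_)
      rcases hN.imm P hfinP with h | h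
      · exact ⟨sx - algebraMap k _ (pv P x), by rw [map_sub, hconst, hsx, h]⟩
      · exact ⟨sy - algebraMap k _ (pv P y), by rw [map_sub, hconst, hsy, h]⟩
    · push Not at honly
      obtain ⟨w, hw, hwp⟩ := honly
      set Q := CurveFF.pl k X hdim w
      obtain ⟨hQ, hQx, hQy⟩ := hxy w hw
      have hPQ : P ≠ Q := fun h => hwp ((CurveFF.pl k X hdim).injective h).symm
      obtain ⟨s, t, hst, hPu, hQu, hPv, hQv⟩ := hN.double P Q hPQ hfinP hQ hQx.symm hQy.symm
      have htwo : ∀ v : CurveFF.Pt X, φ v.1 = a → v = p ∨ v = w := fun v hv => by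
        by_contra! h
        obtain ⟨hS, hSx, hSy⟩ := hxy v hv
        exact hN.triple P Q (CurveFF.pl k X hdim v) hPQ (fun h' => h.1 ((CurveFF.pl k X hdim).injective h').symm)
          (fun h' => h.2 ((CurveFF.pl k X hdim).injective h').symm) hfinP hQ hS hQx.symm hSx.symm hQy.symm hSy.symm
      set ξ : X.functionField := x - algebraMap k _ (pv P x) with hξ
      set η : X.functionField := y - algebraMap k _ (pv P y) with hη
      let u : Y.presheaf.stalk a := (sy - algebraMap k _ (pv P y)) - algebraMap k _ t * (sx - algebraMap k _ (pv P x))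
      let v : Y.presheaf.stalk a := (sy - algebraMap k _ (pv P y)) - algebraMap k _ s * (sx - algebraMap k _ (pv P x))
      have hu : Ψ φ e a u = η - algebraMap k _ t * ξ := by
        simp only [u, map_sub, map_mul, hconst, hsx, hsy, hξ, hη]
      have hv : Ψ φ e a v = η - algebraMap k _ s * ξ := by
        simp only [v, map_sub, map_mul, hconst, hsx, hsy, hξ, hη]
      have h12 : exp (-2 : ℤ) < (exp (-1 : ℤ) : WithZero (Multiplicative ℤ)) := by rw [exp_lt_exp]; norm_num
      have hexu : ∀ (R : Place k X.functionField) (s t : k), s ≠ t → R.1 ξ = exp (-1 : ℤ) →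
          R.1 (η - algebraMap k _ s * ξ) ≤ exp (-2 : ℤ) → R.1 (η - algebraMap k _ t * ξ) = exp (-1 : ℤ) := by
        intro R s t hne h1 h2
        have hst' : R.1 (algebraMap k X.functionField (s - t) * ξ) = exp (-1 : ℤ) := by
          rw [map_mul, val_algebraMap R (sub_ne_zero.2 hne), one_mul, h1]
        rw [show η - algebraMap k _ t * ξ = (η - algebraMap k _ s * ξ) + algebraMap k _ (s - t) * ξ by
          rw [map_sub]; ring, Valuation.map_add_eq_of_lt_right _ (h2.trans_lt (hst' ▸ h12)), hst']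
      have huP : P.1 (Ψ φ e a u) = exp (-1 : ℤ) := hu ▸ hexu P s t hst hPu hPv
      have huQ : Q.1 (Ψ φ e a u) ≤ exp (-2 : ℤ) := hu ▸ hQv
      have hvQ : Q.1 (Ψ φ e a v) = exp (-1 : ℤ) := hv ▸ hexu Q t s (Ne.symm hst) hQu hQv
      have hvP : P.1 (Ψ φ e a v) ≤ exp (-2 : ℤ) := hv ▸ hPv
      obtain ⟨hfinΩ, -, -, -⟩ := NodalLib.field_iff k Y a
      haveI := hfinΩ
      have hodp := isOrdDoublePt_of_branches hK (NodalLib.residue_bijective k Y ha) P Q
        (fun s => ⟨(Ψ_val k hdim φ e p hp s).1, (Ψ_val k hdim φ e w hw s).1⟩)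
        (fun s hs => ⟨(Ψ_val k hdim φ e p hp s).2.2 hs, (Ψ_val k hdim φ e w hw s).2.2 hs⟩)
        ⟨B, hBfg, fun c => ⟨fun h => ⟨(hB c).1 h p hp, (hB c).1 h w hw⟩, fun h => (hB c).2 fun v hv => by
          rcases htwo v hv with rfl | rfl
          exacts [h.1, h.2]⟩⟩
        ((Ψ_val k hdim φ e p hp u).2.1 (huP ▸ hlt1 _ (by norm_num)))
        ((Ψ_val k hdim φ e w hw v).2.1 (hvQ ▸ hlt1 _ (by norm_num))) huP huQ hvQ hvP hinj
      exact Or.inr (NodalLib.isNode_iff.2 (NodalLib.qPt_of_odp k Y ha hodp))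
  · obtain ⟨sx, sy, hsx, hsy⟩ := hinf p hfinP hp
    refine Or.inl (hsmooth (fun w hw => ?_) ⟨sx, by rw [hsx]; exact hinv P hfinP⟩)
    have hm : sx ∈ IsLocalRing.maximalIdeal (Y.presheaf.stalk a) :=
      (Ψ_val k hdim φ e p hp sx).2.1 (by rw [hsx, hinv P hfinP]; exact hlt1 _ (by norm_num))
    have h1 := (Ψ_val k hdim φ e w hw sx).2.2 hm
    rw [hsx, map_inv₀, inv_lt_one₀ (zero_lt_iff.2 ((Valuation.ne_zero_iff _).2 hx0))] at h1
    by_contra hne
    exact hN.pole_inj P (CurveFF.pl k X hdim w) hfinP (not_le.2 h1)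
      (fun h => hne ((CurveFF.pl k X hdim).injective h).symm) (by rw [← hsy]; exact (hsame w hw sy).symm)

end Groth.Agent.CurvFam16.NodalPlane
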